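import Mathlib
import Cfsg.Prelude.Def_Solvable

/-!
Simple groups with twenty-two Sylow 3-subgroups: basic facts about the conjugation action.
-/

set_option autoImplicit false
open scoped Pointwise
open MulAction

namespace CfsgLib.TwentyTwo

theorem dvd_ncard_of_orbit {H α : Type*} [Group H] [MulAction H α] [Finite α] (m : ℕ) (S : Set α)
    (hinv : ∀ h : H, ∀ a ∈ S, h • a ∈ S) (horb : ∀ a ∈ S, m ∣ (orbit H a).ncard) : m ∣ S.ncard := by
  obtain ⟨n, hn⟩ : ∃ n, n = S.ncard := ⟨_, rfl⟩
  induction n using Nat.strong_induction_on generalizing S with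
  | _ n ih =>
  rcases S.eq_empty_or_nonempty with rfl | ⟨a, ha⟩
  · simp
  have hsub : orbit H a ⊆ S := by
    rintro _ ⟨h, rfl⟩
    exact hinv h a ha
  have hcard := Set.ncard_sdiff hsub (Set.toFinite _)
  have hpos : 0 < (orbit H a).ncard := (Set.ncard_pos (Set.toFinite _)).2 ⟨a, mem_orbit_self a⟩
  have hle : (orbit H a).ncard ≤ S.ncard := Set.ncard_le_ncard hsub
  have h1 : m ∣ (S \ orbit H a).ncard := by
    refine ih _ (by omega) _ (fun h b hb => ⟨hinv h b hb.1, fun hmem => hb.2 ?_⟩)
      (fun b hb => horb b hb.1) rfl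
    obtain ⟨h', hh'⟩ := hmem
    exact ⟨h⁻¹ * h', by change (h⁻¹ * h') • a = b; rw [mul_smul]; simp [show h' • a = h • b from hh']⟩
  have : S.ncard = (S \ orbit H a).ncard + (orbit H a).ncard := by omega
  rw [this]
  exact dvd_add h1 (horb a ha)

variable {G : Type*} [Group G]

/-- The size of the orbit of `R` under `P`. -/
noncomputable def idx (P R : Sylow 3 G) : ℕ := (R : Subgroup G).relIndex (P : Subgroup G)

/-- The Sylow subgroups in orbits of size three. -/
def three (P : Sylow 3 G) : Set (Sylow 3 G) := {R | idx P R = 3}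

/-- The Sylow subgroups in orbits of size nine. -/
def nine (P : Sylow 3 G) : Set (Sylow 3 G) := {R | idx P R = 9}

/-- The Sylow subgroups containing a given subgroup. -/
def fixSet (X : Subgroup G) : Set (Sylow 3 G) := {S | X ≤ S}

theorem smul_sylow_of_mem {g : G} {S : Sylow 3 G} (hg : g ∈ S) : g • S = S :=
  Sylow.smul_eq_iff_mem_normalizer.2 (Subgroup.le_normalizer hg)

theorem smul_eq_iff_mem [Finite G] {P : Subgroup G} (hP : IsPGroup 3 P) {g : G} (hg : g ∈ P)
    {S : Sylow 3 G} : g • S = S ↔ g ∈ S := by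
  refine ⟨fun h => ?_, smul_sylow_of_mem⟩
  have h1 : g ∈ P ⊓ Subgroup.normalizer ((S : Subgroup G) : Set G) :=
    ⟨hg, Sylow.smul_eq_iff_mem_normalizer.1 h⟩
  exact ((IsPGroup.inf_normalizer_sylow hP S).le h1).2

theorem stabilizer_subgroupOf [Finite G] (X : Subgroup G) (hX : IsPGroup 3 X) (R : Sylow 3 G) :
    stabilizer X R = (R : Subgroup G).subgroupOf X := by
  ext a
  rw [mem_stabilizer_iff, Subgroup.mem_subgroupOf]
  exact smul_eq_iff_mem hX a.2

theorem ncard_orbit_eq_relIndex [Finite G] (X : Subgroup G) (hX : IsPGroup 3 X) (R : Sylow 3 G) :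
    (orbit X R).ncard = (R : Subgroup G).relIndex X := by
  rw [← index_stabilizer, stabilizer_subgroupOf X hX R]
  rfl

theorem ncard_orbit [Finite G] (P R : Sylow 3 G) :
    (orbit (P : Subgroup G) R).ncard = idx P R :=
  ncard_orbit_eq_relIndex _ P.isPGroup' R

theorem idx_conj (g : G) (P R : Sylow 3 G) : idx (g • P) (g • R) = idx P R :=
  Subgroup.relIndex_map_map_of_injective _ _ (MulAut.conj g).injective

theorem idx_smul_mem {P R : Sylow 3 G} {g : G} (hg : g ∈ P) : idx P (g • R) = idx P R := by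
  conv_lhs => rw [← smul_sylow_of_mem hg]
  exact idx_conj g P R

theorem idx_self (P : Sylow 3 G) : idx P P = 1 := Subgroup.relIndex_self _

variable [Finite G]

theorem card_eq (P R : Sylow 3 G) : Nat.card (P : Subgroup G) = Nat.card (R : Subgroup G) :=
  Nat.card_congr (P.equiv R).toEquiv

theorem idx_mul_card (P R : Sylow 3 G) :
    idx P R * Nat.card ((P : Subgroup G) ⊓ R : Subgroup G) = Nat.card (P : Subgroup G) := by
  have h := Subgroup.relIndex_mul_relIndex (⊥ : Subgroup G) ((P : Subgroup G) ⊓ R) P bot_le inf_le_left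
  rw [Subgroup.relIndex_bot_left, Subgroup.relIndex_bot_left, Subgroup.inf_relIndex_left] at h
  rw [idx, mul_comm]
  exact h

theorem idx_comm (P R : Sylow 3 G) : idx P R = idx R P := by
  have h1 := idx_mul_card P R
  have h2 := idx_mul_card R P
  rw [inf_comm, ← card_eq P R] at h2
  exact Nat.eq_of_mul_eq_mul_right Nat.card_pos (h1.trans h2.symm)

/-- The standing hypothesis: a simple group with twenty-two Sylow 3-subgroups. -/
structure Setting (G : Type*) [Group G] : Prop where
  simple : IsSimpleGroup G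
  count : Nat.card (Sylow 3 G) = 22

theorem Setting.eq_one_of_fix_all (hG : Setting G) {g : G} (h : ∀ S : Sylow 3 G, g • S = S) :
    g = 1 := by
  have := hG.simple
  let φ : G →* Equiv.Perm (Sylow 3 G) := toPermHom G (Sylow 3 G)
  rcases (inferInstance : φ.ker.Normal).eq_bot_or_eq_top with hb | hb
  · have : g ∈ φ.ker := MonoidHom.mem_ker.2 (Equiv.ext h)
    rwa [hb, Subgroup.mem_bot] at this
  · have hsub : Subsingleton (Sylow 3 G) := ⟨fun A B => by
      obtain ⟨a, rfl⟩ := exists_smul_eq G A B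
      have ha : φ a = 1 := MonoidHom.mem_ker.1 (hb ▸ Subgroup.mem_top a : a ∈ φ.ker)
      exact ((Equiv.ext_iff.1 ha) A).symm⟩
    have := hG.count
    rw [Nat.card_eq_one_iff_unique.2 ⟨hsub, inferInstance⟩] at this
    omega

theorem Setting.eq_one_of_mem_all (hG : Setting G) {g : G} (h : ∀ S : Sylow 3 G, g ∈ S) : g = 1 :=
  hG.eq_one_of_fix_all fun S => smul_sylow_of_mem (h S)

theorem Setting.idx_cases (hG : Setting G) {P R : Sylow 3 G} (hne : R ≠ P) :
    idx P R = 3 ∨ idx P R = 9 := by
  obtain ⟨k, hk⟩ : ∃ k, idx P R = 3 ^ k :=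
    P.isPGroup'.index ((R : Subgroup G).subgroupOf (P : Subgroup G))
  have h1 : orbit (P : Subgroup G) R ⊆ ({P} : Set (Sylow 3 G))ᶜ := by
    rintro _ ⟨a, rfl⟩ hmem
    refine hne ?_
    have h2 : (a : G) • R = P := hmem
    rw [← inv_smul_smul (a : G) R, h2]
    exact smul_sylow_of_mem (inv_mem a.2)
  have h2 := Set.ncard_le_ncard h1
  rw [ncard_orbit, Set.ncard_compl, Set.ncard_singleton, hG.count, hk] at h2
  have hk3 : k < 3 := by
    by_contra hc
    have : 3 ^ 3 ≤ 3 ^ k := Nat.pow_le_pow_right (by norm_num) (not_lt.1 hc)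
    omega
  rw [hk]
  interval_cases k
  · exfalso
    refine hne ?_
    rw [pow_zero, idx, Subgroup.relIndex_eq_one] at hk
    exact Sylow.ext (P.3 R.isPGroup' hk)
  · left; norm_num
  · right; norm_num

theorem Setting.eq_or_mem (hG : Setting G) (P R : Sylow 3 G) : R = P ∨ R ∈ three P ∨ R ∈ nine P := by
  by_cases h : R = P
  · exact Or.inl h
  · exact Or.inr (hG.idx_cases h)

theorem not_three_self (P : Sylow 3 G) : P ∉ three P := by
  simp [three, idx_self]

theorem not_nine_self (P : Sylow 3 G) : P ∉ nine P := by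
  simp [nine, idx_self]

theorem not_three_nine {P R : Sylow 3 G} (h : R ∈ three P) : R ∉ nine P := by
  intro h9
  simp only [three, nine, Set.mem_ofPred_eq] at h h9
  omega

theorem Setting.card_three_add_nine (hG : Setting G) (P : Sylow 3 G) :
    (three P).ncard + (nine P).ncard = 21 := by
  have h : ({P} : Set (Sylow 3 G))ᶜ = three P ∪ nine P := by
    ext R
    constructor
    · exact fun hR => hG.idx_cases hR
    · rintro (hR | hR) rfl
      · exact not_three_self _ hR
      · exact not_nine_self _ hR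
  have h2 := congrArg Set.ncard h
  rw [Set.ncard_compl, Set.ncard_singleton, hG.count, Set.ncard_union_eq
    (Set.disjoint_left.2 fun R h3 => not_three_nine h3)] at h2
  omega

theorem dvd_ncard_nine (P : Sylow 3 G) : 9 ∣ (nine P).ncard :=
  dvd_ncard_of_orbit (H := (P : Subgroup G)) 9 _ (fun h a ha => (idx_smul_mem h.2).trans ha)
    (fun a ha => by rw [ncard_orbit]; exact dvd_of_eq (ha : idx P a = 9).symm)

theorem dvd_ncard_three (P : Sylow 3 G) : 3 ∣ (three P).ncard :=
  dvd_ncard_of_orbit (H := (P : Subgroup G)) 3 _ (fun h a ha => (idx_smul_mem h.2).trans ha)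
    (fun a ha => by rw [ncard_orbit]; exact dvd_of_eq (ha : idx P a = 3).symm)

theorem card_inter_mul {P R : Sylow 3 G} (h : R ∈ three P) :
    Nat.card ((P : Subgroup G) ⊓ R : Subgroup G) * 3 = Nat.card (P : Subgroup G) := by
  rw [← idx_mul_card P R, show idx P R = 3 from h, mul_comm]

theorem isPGroup_inter (P R : Sylow 3 G) : IsPGroup 3 ((P : Subgroup G) ⊓ R : Subgroup G) :=
  P.isPGroup'.to_le inf_le_left

theorem Setting.inter_eq (hG : Setting G) {X : Subgroup G} {S T P : Sylow 3 G}
    (hX : Nat.card X * 3 = Nat.card (P : Subgroup G)) (hS : X ≤ S) (hT : X ≤ T) (hne : T ≠ S) :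
    (S : Subgroup G) ⊓ T = X ∧ T ∈ three S := by
  have h1 := idx_mul_card S T
  rw [card_eq S P, ← hX] at h1
  have h2 := Nat.le_of_dvd Nat.card_pos (Subgroup.card_dvd_of_le (le_inf hS hT))
  rcases hG.idx_cases hne with h | h
  · refine ⟨(Subgroup.eq_of_le_of_card_ge (le_inf hS hT) ?_).symm, h⟩
    rw [h] at h1; omega
  · exfalso
    rw [h] at h1
    have : 0 < Nat.card X := Nat.card_pos
    omega

theorem le_normalizer_of_card {X : Subgroup G} {S P : Sylow 3 G}
    (hX : Nat.card X * 3 = Nat.card (P : Subgroup G)) (hS : X ≤ S) :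
    (S : Subgroup G) ≤ Subgroup.normalizer (X : Set G) := by
  have : Fact (Nat.Prime 3) := ⟨Nat.prime_three⟩
  have hidx : (X.subgroupOf (S : Subgroup G)).index = 3 := by
    have h := Subgroup.card_mul_index (X.subgroupOf (S : Subgroup G))
    rw [Nat.card_congr (Subgroup.subgroupOfEquivOfLe hS).toEquiv, card_eq S P, ← hX] at h
    exact Nat.eq_of_mul_eq_mul_left Nat.card_pos h
  obtain ⟨k, hk⟩ := IsPGroup.iff_card.1 S.isPGroup'
  have hk0 : k ≠ 0 := by
    rintro rfl
    have h := Subgroup.index_dvd_card (X.subgroupOf (S : Subgroup G))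
    rw [hidx, hk] at h
    norm_num at h
  have : (X.subgroupOf (S : Subgroup G)).Normal := by
    refine Subgroup.normal_of_index_eq_minFac_card (hidx.trans ?_)
    rw [hk, Nat.pow_minFac hk0, Nat.prime_three.minFac_eq]
  exact Subgroup.le_normalizer_of_normal_subgroupOf hS

theorem mem_fixSet_smul {X : Subgroup G} {S : Sylow 3 G} {g : G}
    (hg : g ∈ Subgroup.normalizer (X : Set G)) (hS : S ∈ fixSet X) : g • S ∈ fixSet X := by
  have h : MulAut.conj g • X ≤ MulAut.conj g • (S : Subgroup G) :=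
    Subgroup.pointwise_smul_le_pointwise_smul_iff.2 hS
  rw [show MulAut.conj g • X = X from Subgroup.mem_normalizer_iff_map_conj_eq.1 hg] at h
  exact h

theorem ncard_fixSet_smul (g : G) (X : Subgroup G) :
    (fixSet (MulAut.conj g • X)).ncard = (fixSet X).ncard := by
  refine (Set.ncard_congr (fun S _ => g • S) ?_ ?_ ?_).symm
  · intro S hS
    exact (Subgroup.pointwise_smul_le_pointwise_smul_iff.2 hS : MulAut.conj g • X ≤ _)
  · intro a b _ _ h
    exact smul_left_cancel g h
  · intro S hS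
    refine ⟨g⁻¹ • S, ?_, smul_inv_smul g S⟩
    change X ≤ MulAut.conj g⁻¹ • (S : Subgroup G)
    rw [map_inv, Subgroup.subset_pointwise_smul_iff, inv_inv]
    exact hS

/-- Double counting of a conjugacy class of subgroups against the Sylow subgroups. -/
theorem Setting.count_conj (hG : Setting G) (X : Subgroup G) (P : Sylow 3 G) :
    {Y : Subgroup G | ∃ g : G, Y = MulAut.conj g • X}.ncard * (fixSet X).ncard =
      22 * {Y : Subgroup G | (∃ g : G, Y = MulAut.conj g • X) ∧ Y ≤ P}.ncard := by
  classical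
  have : Fact (Nat.Prime 3) := ⟨Nat.prime_three⟩
  have : Fintype (Subgroup G) := Fintype.ofFinite _
  have : Fintype (Sylow 3 G) := Fintype.ofFinite _
  let cls : Finset (Subgroup G) := Finset.univ.filter fun Y => ∃ g : G, Y = MulAut.conj g • X
  let r : Subgroup G → Sylow 3 G → Prop := fun Y S => Y ≤ S
  have h := Finset.sum_card_bipartiteAbove_eq_sum_card_bipartiteBelow r (s := cls)
    (t := (Finset.univ : Finset (Sylow 3 G)))
  have h1 : ∀ Y ∈ cls, (Finset.univ.bipartiteAbove r Y).card = (fixSet X).ncard := by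
    intro Y hY
    obtain ⟨g, rfl⟩ : ∃ g : G, Y = MulAut.conj g • X := (Finset.mem_filter.1 hY).2
    rw [← ncard_fixSet_smul g X, ← Set.ncard_coe_finset]
    congr 1
    ext S
    simp [Finset.bipartiteAbove, r, fixSet]
  have h2 : ∀ S : Sylow 3 G, (cls.bipartiteBelow r S).card =
      {Y : Subgroup G | (∃ g : G, Y = MulAut.conj g • X) ∧ Y ≤ P}.ncard := by
    intro S
    obtain ⟨a, rfl⟩ := exists_smul_eq G P S
    rw [← Set.ncard_coe_finset]
    refine (Set.ncard_congr (fun Y _ => MulAut.conj a • Y) ?_ ?_ ?_).symm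
    · rintro Y ⟨⟨g, rfl⟩, hY⟩
      simp only [Finset.coe_filter, Finset.bipartiteBelow, cls, r, Finset.mem_filter, Finset.mem_univ,
        true_and, Set.mem_ofPred_eq]
      exact ⟨⟨a * g, by rw [map_mul, mul_smul]⟩, Subgroup.pointwise_smul_le_pointwise_smul_iff.2 hY⟩
    · intro Y Z _ _ h
      exact smul_left_cancel _ h
    · intro Y hY
      simp only [Finset.coe_filter, Finset.bipartiteBelow, cls, r, Finset.mem_filter, Finset.mem_univ,
        true_and, Set.mem_ofPred_eq] at hY
      obtain ⟨⟨g, rfl⟩, hY⟩ := hY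
      refine ⟨(MulAut.conj a)⁻¹ • MulAut.conj g • X, ⟨⟨a⁻¹ * g, by rw [map_mul, map_inv, mul_smul]⟩, ?_⟩,
        smul_inv_smul _ _⟩
      rw [Subgroup.pointwise_smul_subset_iff, inv_inv]
      exact hY
  rw [Finset.sum_const_nat h1, Finset.sum_const_nat (fun S _ => h2 S), Finset.card_univ,
    ← Nat.card_eq_fintype_card, hG.count] at h
  rw [← h, ← Set.ncard_coe_finset cls]
  simp [cls]

theorem Setting.not_isMulCommutative (hG : Setting G) : ¬ IsMulCommutative G := fun hc => by
  have : Fact (Nat.Prime 3) := ⟨Nat.prime_three⟩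
  have hsub : Subsingleton (Sylow 3 G) := ⟨fun A B => by
    obtain ⟨a, rfl⟩ := exists_smul_eq G A B
    exact (Sylow.smul_eq_iff_mem_normalizer.2 (Subgroup.mem_normalizer_iff.2 fun n => by
      rw [hc.is_comm.comm a n, mul_inv_cancel_right])).symm⟩
  have := hG.count
  rw [Nat.card_eq_one_iff_unique.2 ⟨hsub, inferInstance⟩] at this
  omega

theorem Setting.eq_bot_of_normal_pGroup (hG : Setting G) {N : Subgroup G} [N.Normal] (hN : IsPGroup 3 N) :
    N = ⊥ :=
  (Subgroup.eq_bot_iff_forall _).2 fun _x hx => hG.eq_one_of_mem_all fun S => hN.le_sylow_of_normal S hx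

theorem Setting.pCore_eq_bot (hG : Setting G) : Cfsg.pCore 3 G = ⊥ :=
  (sSup_eq_bot).2 fun N hN => by
    have := hN.1
    exact hG.eq_bot_of_normal_pGroup hN.2

/-- A homomorphism to a group of order two is trivial on a group in the setting. -/
theorem Setting.sign_eq_one (hG : Setting G) {α : Type*} [MulAction G α] [Fintype α] [DecidableEq α]
    (g : G) : Equiv.Perm.sign (MulAction.toPermHom G α g) = 1 := by
  have := hG.simple
  let φ : G →* ℤˣ := Equiv.Perm.sign.comp (MulAction.toPermHom G α)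
  rcases (inferInstance : φ.ker.Normal).eq_bot_or_eq_top with hb | hb
  · exfalso
    apply hG.not_isMulCommutative
    exact ⟨⟨fun a b => ((MonoidHom.ker_eq_bot_iff φ).1 hb) (by rw [map_mul, map_mul, mul_comm])⟩⟩
  · exact MonoidHom.mem_ker.1 (hb ▸ Subgroup.mem_top g : g ∈ φ.ker)

end CfsgLib.TwentyTwo
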