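import Cfsg.Agent.Lib.TwentyTwo.Basic

/-!
Arithmetic of a Sylow 11-subgroup in a simple group with twenty-two Sylow 3-subgroups.
-/

set_option autoImplicit false
open scoped Pointwise
open MulAction

namespace CfsgLib.TwentyTwo

variable {G : Type*} [Group G] [Finite G]

omit [Finite G] in
theorem pow_smul_eq_self {α : Type*} [MulAction G α] {c : G} {a : α} (h : c • a = a) (k : ℕ) :
    c ^ k • a = a := by
  induction k with
  | zero => rw [pow_zero, one_smul]
  | succ k ih => rw [pow_succ, mul_smul, h, ih]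

theorem Setting.card_eq_mul (hG : Setting G) (P : Sylow 3 G) :
    Nat.card G = 22 * Nat.card (Subgroup.normalizer ((P : Subgroup G) : Set G)) := by
  have : Fact (Nat.Prime 3) := ⟨Nat.prime_three⟩
  have h : Nat.card (Sylow 3 G) = (Subgroup.normalizer ((P : Subgroup G) : Set G)).index :=
    P.card_eq_index_normalizer
  rw [← hG.count, h, mul_comm, Subgroup.card_mul_index]

theorem Setting.card_normalizer_eq (hG : Setting G) (P R : Sylow 3 G) :
    Nat.card (Subgroup.normalizer ((P : Subgroup G) : Set G)) =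
      Nat.card (Subgroup.normalizer ((R : Subgroup G) : Set G)) := by
  have := hG.card_eq_mul P
  have := hG.card_eq_mul R
  omega

theorem Setting.eleven (hG : Setting G) (P : Sylow 3 G)
    (h11 : ¬ 11 ∣ Nat.card (Subgroup.normalizer ((P : Subgroup G) : Set G))) :
    ∃ (Q : Sylow 11 G) (c e : ℕ), Nat.card (Q : Subgroup G) = 11 ∧ c ∣ 2 ∧ e ∣ 10 ∧ e ≠ 1 ∧
      Nat.card (Subgroup.centralizer ((Q : Subgroup G) : Set G)) = 11 * c ∧
      Nat.card (Subgroup.normalizer ((Q : Subgroup G) : Set G)) = 11 * c * e ∧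
      Nat.card (Sylow 11 G) % 11 = 1 ∧
      Nat.card (Sylow 11 G) * (c * e) =
        2 * Nat.card (Subgroup.normalizer ((P : Subgroup G) : Set G)) := by
  have : Fact (Nat.Prime 11) := ⟨by norm_num⟩
  have hGcard := hG.card_eq_mul P
  have hN0 : Nat.card (Subgroup.normalizer ((P : Subgroup G) : Set G)) ≠ 0 := Nat.card_pos.ne'
  obtain ⟨Q⟩ : Nonempty (Sylow 11 G) := inferInstance
  have hQ : Nat.card (Q : Subgroup G) = 11 := by
    rw [Q.card_eq_multiplicity, hGcard, Nat.factorization_mul (by norm_num) hN0, Finsupp.add_apply,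
      Nat.factorization_eq_zero_of_not_dvd h11, show (22 : ℕ) = 2 * 11 by norm_num,
      Nat.factorization_mul (by norm_num) (by norm_num), Nat.Prime.factorization Nat.prime_two,
      Nat.Prime.factorization (by norm_num : Nat.Prime 11)]
    simp
  have : IsCyclic (Q : Subgroup G) := isCyclic_of_prime_card hQ
  have hQcomm : ∀ a ∈ (Q : Subgroup G), ∀ b ∈ (Q : Subgroup G), a * b = b * a := fun a ha b hb =>
    congrArg Subtype.val
      ((IsCyclic.isMulCommutative : IsMulCommutative (Q : Subgroup G)).is_comm.comm ⟨a, ha⟩ ⟨b, hb⟩)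
  have hnfix : ∀ S : Sylow 3 G, (orbit (Q : Subgroup G) S).ncard = 11 := by
    intro S
    have h1 := Subgroup.index_dvd_card (stabilizer (Q : Subgroup G) S)
    rw [index_stabilizer, hQ] at h1
    rcases (Nat.dvd_prime (by norm_num : Nat.Prime 11)).1 h1 with h | h
    · exfalso
      apply h11
      rw [hG.card_normalizer_eq P S, ← hQ]
      refine Subgroup.card_dvd_of_le fun q hq => Sylow.smul_eq_iff_mem_normalizer.1 ?_
      obtain ⟨a, ha⟩ := Set.ncard_eq_one.1 h
      have h2 : q • S ∈ orbit (Q : Subgroup G) S := ⟨⟨q, hq⟩, rfl⟩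
      have h3 : S ∈ orbit (Q : Subgroup G) S := mem_orbit_self S
      rw [ha, Set.mem_singleton_iff] at h2 h3
      exact h2.trans h3.symm
    · exact h
  set C := Subgroup.centralizer ((Q : Subgroup G) : Set G) with hC
  have hsemi : ∀ c ∈ C, ∀ S : Sylow 3 G, c • S = S → c = 1 := by
    intro c hc S hS
    have hcomm : ∀ q ∈ (Q : Subgroup G), q * c = c * q := Subgroup.mem_centralizer_iff.1 hc
    have hO : ∀ S' : Sylow 3 G, c • S' = S' → ∀ T ∈ orbit (Q : Subgroup G) S', c • T = T := by
      rintro S' hS' _ ⟨q, rfl⟩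
      change c • (q : G) • S' = (q : G) • S'
      rw [← mul_smul, ← hcomm q q.2, mul_smul, hS']
    have hcompl : ∀ T, T ∉ orbit (Q : Subgroup G) S → (orbit (Q : Subgroup G) S)ᶜ = orbit (Q : Subgroup G) T := by
      intro T hT
      refine (Set.eq_of_subset_of_ncard_le ?_ ?_).symm
      · intro U hU hU'
        exact hT (orbit_eq_iff.1 ((orbit_eq_iff.2 hU).symm.trans (orbit_eq_iff.2 hU')))
      · rw [Set.ncard_compl, hG.count, hnfix, hnfix]
    have hc11 : c ^ 11 = 1 := by
      refine hG.eq_one_of_fix_all fun T => ?_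
      by_cases hT : T ∈ orbit (Q : Subgroup G) S
      · exact pow_smul_eq_self (hO S hS T hT) 11
      · have h1 : c • T ∈ orbit (Q : Subgroup G) T := by
          rw [← hcompl T hT]
          intro h
          have h2 := hO S hS _ h
          exact hT (smul_left_cancel c h2 ▸ h)
        obtain ⟨q, hq⟩ := h1
        have hq' : (q : G) • T = c • T := hq
        have hq11 : (q : G) ^ 11 = 1 := by
          have h3 := pow_card_eq_one' (x := q)
          rw [hQ] at h3
          exact_mod_cast congrArg Subtype.val h3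
        have hk : ∀ k : ℕ, c ^ k • T = (q : G) ^ k • T := by
          intro k
          induction k with
          | zero => simp
          | succ k ih =>
            rw [pow_succ, mul_smul, ← hq', ← mul_smul,
              ← (Commute.pow_right (show Commute (q : G) c from hcomm q q.2) k).eq, mul_smul, ih,
              ← mul_smul, ← pow_succ']
        rw [hk, hq11, one_smul]
    by_contra hc1
    apply h11
    rw [hG.card_normalizer_eq P S, ← orderOf_eq_prime hc11 hc1, ← Nat.card_zpowers]
    exact Subgroup.card_dvd_of_le (Subgroup.zpowers_le.2 (Sylow.smul_eq_iff_mem_normalizer.1 hS))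
  have hQC : (Q : Subgroup G) ≤ C := fun q hq => Subgroup.mem_centralizer_iff.2 fun a ha => hQcomm a ha q hq
  have hC22 : Nat.card C ∣ 22 := by
    rw [← hG.count, ← Set.ncard_univ (Sylow 3 G)]
    refine dvd_ncard_of_orbit (H := C) (α := Sylow 3 G) _ Set.univ (fun _ _ _ => Set.mem_univ _) fun S _ => ?_
    rw [← index_stabilizer, show stabilizer C S = ⊥ from (Subgroup.eq_bot_iff_forall _).2 fun c hc =>
      Subtype.ext (hsemi c c.2 S hc), Subgroup.index_bot]
  obtain ⟨c, hc⟩ := hQ ▸ Subgroup.card_dvd_of_le hQC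
  have hc2 : c ∣ 2 := Nat.dvd_of_mul_dvd_mul_left (by norm_num : 0 < 11) (by rw [← hc]; exact hC22)
  set N := Subgroup.normalizer ((Q : Subgroup G) : Set G) with hN
  have hCN : C ≤ N := Subgroup.centralizer_le_normalizer _
  have hmul := Subgroup.relIndex_mul_relIndex (⊥ : Subgroup G) C N bot_le hCN
  rw [Subgroup.relIndex_bot_left, Subgroup.relIndex_bot_left, hc] at hmul
  have he : C.relIndex N ∣ 10 := by
    have key := Subgroup.card_dvd_of_injective _
      (QuotientGroup.kerLift_injective (Q : Subgroup G).normalizerMonoidHom)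
    rw [Subgroup.normalizerMonoidHom_ker, ← Subgroup.index, ← Subgroup.relIndex, IsCyclic.card_mulAut,
      hQ, Nat.totient_prime (by norm_num)] at key
    exact key
  have he1 : C.relIndex N ≠ 1 := by
    intro h
    rw [Subgroup.relIndex_eq_one] at h
    have := hG.simple
    have hcompl := MonoidHom.ker_transferSylow_isComplement' Q h
    rcases (inferInstance : (MonoidHom.transferSylow Q h).ker.Normal).eq_bot_or_eq_top with hb | hb
    · rw [hb, Subgroup.isComplement'_bot_left] at hcompl
      apply hG.not_isMulCommutative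
      exact ⟨⟨fun a b => hQcomm a (hcompl ▸ Subgroup.mem_top a) b (hcompl ▸ Subgroup.mem_top b)⟩⟩
    · rw [hb, Subgroup.isComplement'_top_left] at hcompl
      rw [hcompl, Subgroup.card_bot] at hQ
      norm_num at hQ
  refine ⟨Q, c, C.relIndex N, hQ, hc2, he, he1, hc, hmul.symm, card_sylow_modEq_one 11 G, ?_⟩
  have h1 : Nat.card (Sylow 11 G) * Nat.card N = Nat.card G := by
    rw [show Nat.card (Sylow 11 G) = N.index from Q.card_eq_index_normalizer, mul_comm, Subgroup.card_mul_index]
  rw [← hmul, hGcard] at h1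
  have h2 : 11 * (Nat.card (Sylow 11 G) * (c * C.relIndex N)) =
      11 * (2 * Nat.card (Subgroup.normalizer ((P : Subgroup G) : Set G))) := by
    rw [← mul_assoc 11 2, show 11 * 2 = 22 by norm_num, ← h1]; ring
  exact Nat.eq_of_mul_eq_mul_left (by norm_num) h2

end CfsgLib.TwentyTwo
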