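import Cfsg.Agent.Lib.TwentyTwo.Basic

/-!
The case of an orbit of size nine: twelve Sylow subgroups lie on four lines through a given one.
-/

set_option autoImplicit false
open scoped Pointwise
open MulAction

namespace CfsgLib.TwentyTwo

variable {G : Type*} [Group G] [Finite G]

/-- `X` is the intersection of `P` with a Sylow subgroup in an orbit of size three. -/
def Line (P : Sylow 3 G) (X : Subgroup G) : Prop :=
  ∃ R ∈ three P, X = (P : Subgroup G) ⊓ R

omit [Finite G] in
theorem Line.le {P : Sylow 3 G} {X : Subgroup G} (h : Line P X) : X ≤ P := by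
  obtain ⟨R, _, rfl⟩ := h
  exact inf_le_left

theorem Line.card {P : Sylow 3 G} {X : Subgroup G} (h : Line P X) :
    Nat.card X * 3 = Nat.card (P : Subgroup G) := by
  obtain ⟨R, hR, rfl⟩ := h
  exact card_inter_mul hR

theorem Line.le_normalizer {P : Sylow 3 G} {X : Subgroup G} (h : Line P X) :
    (P : Subgroup G) ≤ Subgroup.normalizer (X : Set G) :=
  le_normalizer_of_card h.card h.le

omit [Finite G] in
theorem Line.mem_fixSet {P : Sylow 3 G} {X : Subgroup G} (h : Line P X) : P ∈ fixSet X := h.le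

theorem Setting.line_of_mem_fixSet (hG : Setting G) {P S : Sylow 3 G} {X : Subgroup G}
    (hX : Line P X) (hS : S ∈ fixSet X) (hne : S ≠ P) : S ∈ three P ∧ (P : Subgroup G) ⊓ S = X := by
  have h := hG.inter_eq hX.card hX.le hS hne
  exact ⟨h.2, h.1⟩

theorem Setting.fixSet_sdiff (hG : Setting G) {P : Sylow 3 G} {X : Subgroup G} (hX : Line P X) :
    fixSet X \ {P} = {R ∈ three P | (P : Subgroup G) ⊓ R = X} := by
  ext R
  constructor
  · rintro ⟨hR, hne⟩
    exact hG.line_of_mem_fixSet hX hR hne
  · rintro ⟨hR, rfl⟩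
    exact ⟨(inf_le_right : (P : Subgroup G) ⊓ R ≤ R), fun h => not_three_self P (h ▸ hR)⟩

theorem Setting.dvd_fixSet_sdiff (hG : Setting G) {P : Sylow 3 G} {X : Subgroup G} (hX : Line P X) :
    3 ∣ (fixSet X \ {P}).ncard := by
  refine dvd_ncard_of_orbit (H := (P : Subgroup G)) 3 _ ?_ ?_
  · rintro h R ⟨hR, hne⟩
    refine ⟨mem_fixSet_smul (hX.le_normalizer h.2) hR, fun h' => hne ?_⟩
    have h2 : (h : G) • R = P := h'
    rw [Set.mem_singleton_iff, ← inv_smul_smul (h : G) R, h2]
    exact smul_sylow_of_mem (inv_mem h.2)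
  · rintro R ⟨hR, hne⟩
    rw [ncard_orbit]
    exact dvd_of_eq ((hG.line_of_mem_fixSet hX hR hne).1 : idx P R = 3).symm

omit [Finite G] in
theorem exists_line (P : Sylow 3 G) (h : (three P).Nonempty) : ∃ X, Line P X :=
  let ⟨R, hR⟩ := h
  ⟨_, R, hR, rfl⟩

/-- The fibres of `R ↦ P ⊓ R` on the orbits of size three. -/
theorem Setting.ncard_three_eq_sum (hG : Setting G) (P : Sylow 3 G) [Fintype {X | Line P X}] :
    (three P).ncard = ∑ X ∈ {X | Line P X}.toFinset, (fixSet X \ {P}).ncard := by
  classical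
  have : Fintype (Sylow 3 G) := Fintype.ofFinite _
  rw [Set.ncard_eq_toFinset_card' (three P),
    Finset.card_eq_sum_card_fiberwise (f := fun R : Sylow 3 G => (P : Subgroup G) ⊓ R)
      (t := {X | Line P X}.toFinset)]
  · refine Finset.sum_congr rfl fun X hX => ?_
    rw [hG.fixSet_sdiff (by simpa using hX), Set.ncard_eq_toFinset_card' _]
    congr 1
    ext R
    simp
  · intro R hR
    simp only [Set.coe_toFinset, Set.mem_ofPred_eq] at hR ⊢
    exact ⟨R, hR, rfl⟩

/-- In the presence of an orbit of size nine, every line has four points. -/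
theorem Setting.line_four (hG : Setting G) {P : Sylow 3 G} (h9 : (nine P).Nonempty) :
    (three P).ncard = 12 ∧ (nine P).ncard = 9 ∧ (∀ X, Line P X → (fixSet X).ncard = 4) ∧
      {X | Line P X}.ncard = 4 := by
  classical
  have : Fintype (Subgroup G) := Fintype.ofFinite _
  have hsum := hG.card_three_add_nine P
  have hd9 := dvd_ncard_nine P
  have hd3 := dvd_ncard_three P
  have hpos : 0 < (nine P).ncard := (Set.ncard_pos (Set.toFinite _)).2 h9
  have key : ∀ X, Line P X → (fixSet X).ncard = 4 ∧ (three P).ncard = 12 := by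
    intro X hX
    have hf : (fixSet X).ncard = (fixSet X \ {P}).ncard + 1 :=
      (Set.ncard_sdiff_singleton_add_one hX.mem_fixSet).symm
    have hne : (fixSet X \ {P}).Nonempty := by
      obtain ⟨R, hR, hXR⟩ := hX
      exact ⟨R, (hXR ▸ inf_le_right : X ≤ R), fun h => not_three_self P (h ▸ hR)⟩
    have hne' : 0 < (fixSet X \ {P}).ncard := (Set.ncard_pos (Set.toFinite _)).2 hne
    have h3 := hG.dvd_fixSet_sdiff hX
    set T : Set (Subgroup G) := {Y | (∃ g : G, Y = MulAut.conj g • X) ∧ Y ≤ P} with hT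
    have hTline : ∀ Y ∈ T, Line P Y ∧ (fixSet Y).ncard = (fixSet X).ncard := by
      rintro Y ⟨⟨g, rfl⟩, hY⟩
      have hfix := ncard_fixSet_smul g X
      refine ⟨?_, hfix⟩
      obtain ⟨R, hR, hRP⟩ : ∃ R ∈ fixSet (MulAut.conj g • X), R ≠ P :=
        Set.exists_ne_of_one_lt_ncard (by omega) P
      have hcard : Nat.card (MulAut.conj g • X : Subgroup G) * 3 = Nat.card (P : Subgroup G) := by
        rw [← Nat.card_congr (Subgroup.equivSMul (MulAut.conj g) X).toEquiv]
        exact hX.card
      have h := hG.inter_eq hcard hY hR hRP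
      exact ⟨R, h.2, h.1.symm⟩
    have hle : T.ncard * (fixSet X \ {P}).ncard ≤ (three P).ncard := by
      rw [hG.ncard_three_eq_sum P, Set.ncard_eq_toFinset_card' T, ← smul_eq_mul, ← Finset.sum_const]
      calc ∑ _Y ∈ T.toFinset, (fixSet X \ {P}).ncard
          = ∑ Y ∈ T.toFinset, (fixSet Y \ {P}).ncard := by
            refine Finset.sum_congr rfl fun Y hY => ?_
            obtain ⟨hl, hc⟩ := hTline Y (by simpa using hY)
            have h1 := Set.ncard_sdiff_singleton_add_one hl.mem_fixSet
            have h2 := Set.ncard_sdiff_singleton_add_one hX.mem_fixSet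
            omega
        _ ≤ _ := by
            refine Finset.sum_le_sum_of_subset ?_
            intro Y hY
            simp only [Set.mem_toFinset] at hY ⊢
            exact (hTline Y hY).1
    have hk : 0 < T.ncard :=
      (Set.ncard_pos (Set.toFinite _)).2 ⟨X, ⟨1, by rw [map_one, one_smul]⟩, hX.le⟩
    have hc := hG.count_conj X P
    rw [← hT] at hc
    generalize (fixSet X \ {P}).ncard = m at *
    generalize T.ncard = k at *
    generalize ({Y : Subgroup G | ∃ g : G, Y = MulAut.conj g • X}).ncard = n at *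
    have h12 : k * m ≤ 12 := by omega
    have hm3 : 3 ≤ m := Nat.le_of_dvd hne' h3
    have hm : m ≤ 12 := le_trans (Nat.le_mul_of_pos_left m hk) h12
    have hk12 : k ≤ 4 := by nlinarith
    rw [hf] at hc ⊢
    interval_cases k <;> interval_cases m <;> omega
  obtain ⟨R, hR⟩ : (three P).Nonempty := Set.nonempty_of_ncard_ne_zero (by omega)
  have h12 := (key _ ⟨R, hR, rfl⟩).2
  refine ⟨h12, by omega, fun X hX => (key X hX).1, ?_⟩
  have h := hG.ncard_three_eq_sum P
  rw [Finset.sum_congr rfl (g := fun _ => 3) (fun X hX => ?_), Finset.sum_const, smul_eq_mul] at h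
  · rw [Set.ncard_eq_toFinset_card']
    omega
  · have hX' : Line P X := by simpa using hX
    have h1 := (key X hX').1
    have h2 := Set.ncard_sdiff_singleton_add_one hX'.mem_fixSet
    omega

omit [Finite G] in
theorem nine_conj {P : Sylow 3 G} (g : G) (h : (nine P).Nonempty) : (nine (g • P)).Nonempty :=
  let ⟨R, hR⟩ := h
  ⟨g • R, (idx_conj g P R).trans hR⟩

omit [Finite G] in
theorem idx_eq_nine_of_mem {P R : Sylow 3 G} (h : R ∈ nine P) : idx P R = 9 := h

theorem Setting.orbit_nine (hG : Setting G) {P R : Sylow 3 G} (hR : R ∈ nine P) :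
    orbit (P : Subgroup G) R = nine P := by
  refine Set.eq_of_subset_of_ncard_le ?_ ?_
  · rintro _ ⟨a, rfl⟩
    exact (idx_smul_mem a.2).trans hR
  · rw [(hG.line_four ⟨R, hR⟩).2.1, ncard_orbit, idx_eq_nine_of_mem hR]

end CfsgLib.TwentyTwo
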