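import Cfsg.Agent.Lib.TwentyTwo.Lines
import Cfsg.Agent.S0060

/-!
With an orbit of size nine the Sylow 3-subgroups have order nine.
-/

set_option autoImplicit false
open scoped Pointwise
open MulAction

namespace CfsgLib.TwentyTwo

variable {G : Type*} [Group G] [Finite G]

/-- `P` together with the orbits of size three. -/
def near (P : Sylow 3 G) : Set (Sylow 3 G) := (nine P)ᶜ

theorem self_mem_near (P : Sylow 3 G) : P ∈ near P := not_nine_self P

theorem Setting.mem_near (hG : Setting G) {P R : Sylow 3 G} :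
    R ∈ near P ↔ R = P ∨ R ∈ three P := by
  constructor
  · intro h
    rcases hG.eq_or_mem P R with h1 | h1 | h1
    · exact Or.inl h1
    · exact Or.inr h1
    · exact absurd h1 h
  · rintro (rfl | h)
    · exact self_mem_near _
    · exact not_three_nine h

theorem Setting.ncard_near (hG : Setting G) {P : Sylow 3 G} (h : (nine P).Nonempty) :
    (near P).ncard = 13 := by
  rw [near, Set.ncard_compl, hG.count, (hG.line_four h).2.1]

theorem orbit_line_subset {P R : Sylow 3 G} {X : Subgroup G} (hX : X ≤ P) :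
    orbit X R ⊆ orbit (P : Subgroup G) R := by
  rintro _ ⟨x, rfl⟩
  exact ⟨⟨x, hX x.2⟩, rfl⟩

theorem relIndex_le_idx {P R : Sylow 3 G} {X : Subgroup G} (hX : X ≤ P) :
    (R : Subgroup G).relIndex X ≤ idx P R := by
  rw [← ncard_orbit P R, ← ncard_orbit_eq_relIndex X (P.isPGroup'.to_le hX) R]
  exact Set.ncard_le_ncard (orbit_line_subset hX)

/-- No line acts transitively on the orbit of size nine. -/
theorem Setting.line_relIndex_ne_nine (hG : Setting G) (hall : ∀ P : Sylow 3 G, (nine P).Nonempty)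
    {P R : Sylow 3 G} {X : Subgroup G} (hX : Line P X) (hR : R ∈ nine P) :
    (R : Subgroup G).relIndex X ≠ 9 := by
  intro h
  have hXp : IsPGroup 3 X := P.isPGroup'.to_le hX.le
  have horb : orbit X R = nine P := by
    refine Set.eq_of_subset_of_ncard_le ((orbit_line_subset hX.le).trans (hG.orbit_nine hR).le) ?_
    rw [(hG.line_four (hall P)).2.1, ncard_orbit_eq_relIndex X hXp, h]
  have hfix : ∀ Q ∈ fixSet X, near Q = near P := by
    intro Q hQ
    have hsub : nine P ⊆ nine Q := by
      intro S hS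
      have hS' : S ∈ orbit X R := horb ▸ hS
      have h1 : (S : Subgroup G).relIndex X = 9 := by
        rw [← ncard_orbit_eq_relIndex X hXp, orbit_eq_iff.2 hS', ncard_orbit_eq_relIndex X hXp, h]
      have h2 := relIndex_le_idx (R := S) (hQ : X ≤ Q)
      rcases hG.eq_or_mem Q S with rfl | h3 | h3
      · rw [idx_self] at h2; omega
      · simp only [three, Set.mem_ofPred_eq] at h3; omega
      · exact h3
    rw [near, near, Set.eq_of_subset_of_ncard_le hsub
      (by rw [(hG.line_four (hall P)).2.1, (hG.line_four (hall Q)).2.1])]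
  have hall' : ∀ a ∈ near P, near a = near P := by
    intro a ha
    by_cases haX : a ∈ fixSet X
    · exact hfix a haX
    have hline : ∀ Q ∈ fixSet X, a ∈ three Q := by
      intro Q hQ
      have := hfix Q hQ ▸ ha
      rcases hG.mem_near.1 this with rfl | h1
      · exact absurd hQ haX
      · exact h1
    have himage : (fun Q : Sylow 3 G => (a : Subgroup G) ⊓ Q) '' fixSet X = {Y | Line a Y} := by
      refine Set.eq_of_subset_of_ncard_le ?_ ?_
      · rintro _ ⟨Q, hQ, rfl⟩
        exact ⟨Q, (idx_comm a Q).trans (hline Q hQ), rfl⟩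
      · rw [(hG.line_four (hall a)).2.2.2, Set.InjOn.ncard_image, (hG.line_four (hall P)).2.2.1 X hX]
        intro Q hQ Q' hQ' heq
        by_contra hne
        have h1 : (Q : Subgroup G) ⊓ Q' = X :=
          (hG.inter_eq (P := P) hX.card hQ hQ' (Ne.symm hne)).1
        have hL : Line a ((a : Subgroup G) ⊓ Q) := ⟨Q, (idx_comm a Q).trans (hline Q hQ), rfl⟩
        have h2 := (hG.inter_eq (P := a) hL.card (S := Q) (T := Q') inf_le_right
          ((le_of_eq heq).trans inf_le_right) (Ne.symm hne)).1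
        exact haX ((h1.symm.trans h2).le.trans inf_le_left)
    refine Set.eq_of_subset_of_ncard_le ?_ (by rw [hG.ncard_near (hall P), hG.ncard_near (hall a)])
    intro b hb
    rcases hG.mem_near.1 hb with rfl | hb
    · exact ha
    obtain ⟨Q, hQ, hQb⟩ : ((a : Subgroup G) ⊓ b) ∈ (fun Q : Sylow 3 G => (a : Subgroup G) ⊓ Q) '' fixSet X := by
      rw [himage]; exact ⟨b, hb, rfl⟩
    rw [← hfix Q hQ, hG.mem_near]
    by_cases hbQ : b = Q
    · exact Or.inl hbQ
    · refine Or.inr (hG.line_of_mem_fixSet (X := (Q : Subgroup G) ⊓ a) ⟨a, hline Q hQ, rfl⟩ ?_ hbQ).1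
      change (Q : Subgroup G) ⊓ a ≤ b
      rw [inf_comm, show (a : Subgroup G) ⊓ (Q : Subgroup G) = (a : Subgroup G) ⊓ (b : Subgroup G) from hQb]
      exact inf_le_right
  have hsub : near P ⊆ nine R := by
    intro a ha
    have h1 : R ∈ nine a := by
      have : R ∉ near P := fun h' => h' hR
      rw [← hall' a ha] at this
      exact not_not.1 this
    exact (idx_comm R a).trans h1
  have := Set.ncard_le_ncard hsub
  rw [hG.ncard_near (hall P), (hG.line_four (hall R)).2.1] at this
  omega

theorem Setting.line_relIndex_dvd (hG : Setting G) (hall : ∀ P : Sylow 3 G, (nine P).Nonempty)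
    {P : Sylow 3 G} {X : Subgroup G} (hX : Line P X) (R : Sylow 3 G) :
    (R : Subgroup G).relIndex X = 1 ∨ (R : Subgroup G).relIndex X = 3 := by
  obtain ⟨k, hk⟩ : ∃ k, (R : Subgroup G).relIndex X = 3 ^ k :=
    (P.isPGroup'.to_le hX.le).index ((R : Subgroup G).subgroupOf X)
  have hle := relIndex_le_idx (R := R) hX.le
  have hk2 : k ≤ 2 := by
    by_contra hc
    have : 3 ^ 3 ≤ 3 ^ k := Nat.pow_le_pow_right (by norm_num) (not_le.1 hc)
    rcases hG.eq_or_mem P R with rfl | h3 | h3
    · rw [idx_self] at hle; omega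
    · simp only [three, Set.mem_ofPred_eq] at h3; omega
    · simp only [nine, Set.mem_ofPred_eq] at h3; omega
  rw [hk] at hle ⊢
  interval_cases k
  · left; norm_num
  · right; norm_num
  · exfalso
    rcases hG.eq_or_mem P R with rfl | h3 | h3
    · rw [idx_self] at hle; norm_num at hle
    · simp only [three, Set.mem_ofPred_eq] at h3; rw [h3] at hle; norm_num at hle
    · exact hG.line_relIndex_ne_nine hall hX h3 (by rw [hk]; norm_num)

omit [Finite G] in
/-- A normal subgroup of index one or three contains commutators and cubes. -/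
theorem commutator_mem_of_index {H : Type*} [Group H] (N : Subgroup H) [N.Normal]
    (h : N.index = 1 ∨ N.index = 3) (x y : H) : x * y * x⁻¹ * y⁻¹ ∈ N ∧ x ^ 3 ∈ N := by
  rcases h with h | h
  · rw [Subgroup.index_eq_one.1 h]; exact ⟨Subgroup.mem_top _, Subgroup.mem_top _⟩
  have : Fact (Nat.Prime 3) := ⟨Nat.prime_three⟩
  have hc : Nat.card (H ⧸ N) = 3 := h
  have := isCyclic_of_prime_card hc
  constructor
  · rw [← QuotientGroup.eq_one_iff]
    simp only [QuotientGroup.mk_mul, QuotientGroup.mk_inv]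
    have hcomm : IsMulCommutative (H ⧸ N) := IsCyclic.isMulCommutative
    rw [hcomm.is_comm.comm (x : H ⧸ N) y]
    group
  · rw [← h]; exact Subgroup.pow_index_mem N x

omit [Finite G] in
theorem normal_of_relIndex {H K : Subgroup G} [Finite G] (hK : IsPGroup 3 K)
    (h : H.relIndex K = 1 ∨ H.relIndex K = 3) : (H.subgroupOf K).Normal := by
  rcases h with h | h
  · rw [show H.subgroupOf K = ⊤ from Subgroup.index_eq_one.1 h]; infer_instance
  have : Fact (Nat.Prime 3) := ⟨Nat.prime_three⟩
  obtain ⟨k, hk⟩ := IsPGroup.iff_card.1 hK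
  have hk0 : k ≠ 0 := by
    rintro rfl
    have h2 := Subgroup.index_dvd_card (H.subgroupOf K)
    rw [show (H.subgroupOf K).index = 3 from h, hk] at h2
    norm_num at h2
  refine Subgroup.normal_of_index_eq_minFac_card (h.trans ?_)
  rw [hk, Nat.pow_minFac hk0, Nat.prime_three.minFac_eq]

theorem Setting.line_elementary (hG : Setting G) (hall : ∀ P : Sylow 3 G, (nine P).Nonempty)
    {P : Sylow 3 G} {X : Subgroup G} (hX : Line P X) {x y : G} (hx : x ∈ X) (hy : y ∈ X) :
    x * y = y * x ∧ x ^ 3 = 1 := by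
  have hmem : ∀ R : Sylow 3 G, x * y * x⁻¹ * y⁻¹ ∈ R ∧ x ^ 3 ∈ R := by
    intro R
    have h := hG.line_relIndex_dvd hall hX R
    have := normal_of_relIndex (P.isPGroup'.to_le hX.le) h
    exact commutator_mem_of_index ((R : Subgroup G).subgroupOf X) h ⟨x, hx⟩ ⟨y, hy⟩
  refine ⟨?_, hG.eq_one_of_mem_all fun R => (hmem R).2⟩
  have := hG.eq_one_of_mem_all fun R => (hmem R).1
  rwa [mul_inv_eq_one, mul_inv_eq_iff_eq_mul] at this

/-- Commutators of `P` lie in every line. -/
theorem Line.commutator_mem {P : Sylow 3 G} {X : Subgroup G} (h : Line P X) {x y : G} (hx : x ∈ P)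
    (hy : y ∈ P) : x * y * x⁻¹ * y⁻¹ ∈ X := by
  obtain ⟨R, hR, rfl⟩ := h
  have h3 : (R : Subgroup G).relIndex (P : Subgroup G) = 3 := hR
  have := normal_of_relIndex P.isPGroup' (Or.inr h3)
  have hP : x * y * x⁻¹ * y⁻¹ ∈ (P : Subgroup G) :=
    mul_mem (mul_mem (mul_mem hx hy) (inv_mem hx)) (inv_mem hy)
  exact ⟨hP, (commutator_mem_of_index ((R : Subgroup G).subgroupOf (P : Subgroup G)) (Or.inr h3)
    ⟨x, hx⟩ ⟨y, hy⟩).1⟩

/-- A line is maximal. -/
theorem Line.sup_eq {P : Sylow 3 G} {X Y : Subgroup G} (hX : Line P X) (hY : Y ≤ P) (hne : ¬ Y ≤ X) :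
    X ⊔ Y = P := by
  refine Subgroup.eq_of_le_of_card_ge (sup_le hX.le hY) ?_
  obtain ⟨a, ha⟩ := Subgroup.card_dvd_of_le (le_sup_left : X ≤ X ⊔ Y)
  have h2 := Subgroup.card_dvd_of_le (sup_le hX.le hY)
  rw [ha, ← hX.card] at h2
  rcases (Nat.dvd_prime Nat.prime_three).1 (Nat.dvd_of_mul_dvd_mul_left Nat.card_pos h2) with rfl | rfl
  · exfalso
    refine hne (le_sup_right.trans (Subgroup.eq_of_le_of_card_ge (le_sup_left : X ≤ X ⊔ Y) ?_).ge)
    rw [ha, mul_one]
  · rw [ha, hX.card]

/-- An element fixing an orbit of size nine pointwise is trivial, if `P` is not abelian. -/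
theorem Setting.eq_one_of_fix_nine (hG : Setting G) {P : Sylow 3 G}
    (hc : ∀ c ∈ P, (∀ p ∈ P, p * c = c * p) → ∀ X, Line P X → c ∈ X) {u : G} (hu : u ∈ P)
    (hfix : ∀ R ∈ nine P, u ∈ R) : u = 1 := by
  have hcent : ∀ p ∈ P, p * u = u * p := by
    intro p hp
    have h1 : p * u * p⁻¹ * u⁻¹ = 1 := by
      refine hG.eq_one_of_mem_all fun R => ?_
      rcases hG.eq_or_mem P R with rfl | h3 | h3
      · exact mul_mem (mul_mem (mul_mem hp hu) (inv_mem hp)) (inv_mem hu)
      · exact (Line.commutator_mem (X := (P : Subgroup G) ⊓ R) ⟨R, h3, rfl⟩ hp hu).2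
      · have h4 : (p⁻¹ : G) • R ∈ nine P := (idx_smul_mem (inv_mem hp)).trans h3
        have h5 : u ∈ MulAut.conj p⁻¹ • (R : Subgroup G) := hfix _ h4
        rw [map_inv, Subgroup.mem_inv_pointwise_smul_iff] at h5
        have h6 : p * u * p⁻¹ ∈ (R : Subgroup G) := h5
        exact mul_mem h6 (inv_mem (hfix R h3))
    rwa [mul_inv_eq_one, mul_inv_eq_iff_eq_mul] at h1
  refine hG.eq_one_of_mem_all fun R => ?_
  rcases hG.eq_or_mem P R with rfl | h3 | h3
  · exact hu
  · exact (hc u hu hcent _ ⟨R, h3, rfl⟩).2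
  · exact hfix R h3

theorem Setting.commute_of_nine (hG : Setting G) (hall : ∀ P : Sylow 3 G, (nine P).Nonempty)
    (P : Sylow 3 G) : ∀ a ∈ P, ∀ b ∈ P, a * b = b * a := by
  have : Fact (Nat.Prime 3) := ⟨Nat.prime_three⟩
  by_contra hab
  have h4 := hG.line_four (hall P)
  have hcl : ∀ c ∈ P, (∀ p ∈ P, p * c = c * p) → ∀ X, Line P X → c ∈ X := by
    intro c hcP hc X hX
    by_contra hcX
    have hsup := hX.sup_eq (Y := Subgroup.zpowers c) (Subgroup.zpowers_le.2 hcP)
      (fun h => hcX (Subgroup.zpowers_le.1 h))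
    apply hab
    intro a ha b hb
    have hPX : ∀ x ∈ X, (P : Subgroup G) ≤ Subgroup.centralizer {x} := by
      intro x hx
      rw [← hsup]
      refine sup_le (fun y hy => ?_) (Subgroup.zpowers_le.2 ?_)
      · exact Subgroup.mem_centralizer_singleton_iff.2 (hG.line_elementary hall hX hy hx).1
      · exact Subgroup.mem_centralizer_singleton_iff.2 ((hc x (hX.le hx)).symm)
    have : (P : Subgroup G) ≤ Subgroup.centralizer {a} := by
      rw [← hsup]
      refine sup_le (fun x hx => ?_) (Subgroup.zpowers_le.2 ?_)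
      · exact Subgroup.mem_centralizer_singleton_iff.2
          ((Subgroup.mem_centralizer_singleton_iff.1 (hPX x hx ha)).symm)
      · exact Subgroup.mem_centralizer_singleton_iff.2 ((hc a ha).symm)
    exact (Subgroup.mem_centralizer_singleton_iff.1 (this hb)).symm
  obtain ⟨Z, hZP, hZc, hZmk⟩ : ∃ Z : Subgroup G, Z ≤ P ∧ (∀ c ∈ Z, ∀ p ∈ P, p * c = c * p) ∧
      ∀ c ∈ P, (∀ p ∈ P, p * c = c * p) → c ∈ Z :=
    ⟨(P : Subgroup G) ⊓ Subgroup.centralizer ((P : Subgroup G) : Set G), inf_le_left,
      fun c hc p hp => Subgroup.mem_centralizer_iff.1 hc.2 p hp,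
      fun c hc h => ⟨hc, Subgroup.mem_centralizer_iff.2 h⟩⟩
  have hZline : ∀ X, Line P X → Z ≤ X := fun X hX c hc => hcl c (hZP hc) (hZc c hc) X hX
  obtain ⟨R, hR⟩ := hall P
  have hZR : ∀ c ∈ Z, c ∈ R → c = 1 := by
    intro c hc hcR
    refine hG.eq_one_of_fix_nine hcl (hZP hc) fun S hS => ?_
    rw [← hG.orbit_nine hR] at hS
    obtain ⟨p, rfl⟩ := hS
    have h : c • (p : G) • R = (p : G) • R := by
      rw [← mul_smul, ← hZc c hc p p.2, mul_smul, smul_sylow_of_mem hcR]
    exact (smul_eq_iff_mem P.isPGroup' (hZP hc)).1 h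
  have hZ9 : Nat.card Z ≤ 9 := by
    have h1 : (R : Subgroup G).relIndex Z = Nat.card Z := by
      rw [← Subgroup.inf_relIndex_right, ← Subgroup.relIndex_bot_left Z]
      congr 1
      exact (Subgroup.eq_bot_iff_forall _).2 fun c hc => hZR c hc.2 hc.1
    have h2 := relIndex_le_idx (R := R) hZP
    rw [idx_eq_nine_of_mem hR] at h2
    omega
  obtain ⟨X, Y, hX, hY, hXY⟩ : ∃ X Y, Line P X ∧ Line P Y ∧ X ≠ Y := by
    obtain ⟨X, hX, Y, hY, hne⟩ := (Set.one_lt_ncard (Set.toFinite _)).1 (by omega :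
      1 < {X | Line P X}.ncard)
    exact ⟨X, Y, hX, hY, hne⟩
  have hcentXY : ∀ {X Y : Subgroup G}, Line P X → Line P Y → X ≠ Y → X ⊓ Y ≤ Z := by
    intro X Y hX hY hne c hc
    refine hZmk c (hX.le hc.1) ?_
    have hYX : ¬ Y ≤ X := fun h => hne (Subgroup.eq_of_le_of_card_ge h (by
      have := hX.card; have := hY.card; omega)).symm
    intro p hp
    have hle : (P : Subgroup G) ≤ Subgroup.centralizer {c} := by
      rw [← hX.sup_eq hY.le hYX]
      exact sup_le (fun y hy => Subgroup.mem_centralizer_singleton_iff.2 (hG.line_elementary hall hX hy hc.1).1)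
        (fun y hy => Subgroup.mem_centralizer_singleton_iff.2 (hG.line_elementary hall hY hy hc.2).1)
    exact Subgroup.mem_centralizer_singleton_iff.1 (hle hp)
  have hXle : Nat.card X ≤ 3 * Nat.card Z := by
    obtain ⟨S, hS, rfl⟩ := hY
    have h1 := Subgroup.relIndex_mul_relIndex (⊥ : Subgroup G) (X ⊓ S) X bot_le inf_le_left
    rw [Subgroup.relIndex_bot_left, Subgroup.relIndex_bot_left, Subgroup.inf_relIndex_left] at h1
    have h2 : X ⊓ S ≤ Z := by
      refine le_trans ?_ (hcentXY hX ⟨S, hS, rfl⟩ hXY)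
      exact fun c hc => ⟨hc.1, hX.le hc.1, hc.2⟩
    have h3 := Nat.le_of_dvd Nat.card_pos (Subgroup.card_dvd_of_le h2)
    rcases hG.line_relIndex_dvd hall hX S with h | h <;> rw [h] at h1 <;> omega
  have hnot9 : Nat.card (P : Subgroup G) ≠ 9 := fun h => hab fun a ha b hb =>
    congrArg Subtype.val ((IsPGroup.isMulCommutative_of_card_eq_prime_sq
      (p := 3) (G := (P : Subgroup G)) (by rw [h]; norm_num)).is_comm.comm ⟨a, ha⟩ ⟨b, hb⟩)
  have hPcard : Nat.card (P : Subgroup G) = 9 * Nat.card ((P : Subgroup G) ⊓ R : Subgroup G) := by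
    rw [← idx_mul_card P R, idx_eq_nine_of_mem hR]
  have hZne : Z ≠ (P : Subgroup G) := fun h => hab fun a ha b hb => hZc b (h ▸ hb) a ha
  -- the centre has order three
  have hZ3 : Nat.card Z = 3 := by
    have hXcard := hX.card
    obtain ⟨j, hj⟩ := IsPGroup.iff_card.1 (P.isPGroup'.to_le hZP)
    obtain ⟨i, hi⟩ := IsPGroup.iff_card.1 (isPGroup_inter P R)
    have hj2 : j < 3 := by
      by_contra hc
      have : 3 ^ 3 ≤ 3 ^ j := Nat.pow_le_pow_right (by norm_num) (not_lt.1 hc)
      omega
    interval_cases j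
    · exfalso
      have : i = 0 := by
        by_contra hc
        have : 3 ^ 1 ≤ 3 ^ i := Nat.pow_le_pow_right (by norm_num) (Nat.pos_of_ne_zero hc)
        rw [hi] at hPcard
        omega
      rw [hi, this] at hPcard
      exact hnot9 (by omega)
    · simpa using hj
    · exfalso
      refine hnot9 ?_
      rw [hPcard, show (P : Subgroup G) ⊓ R = ⊥ from ?_]
      · simp
      refine (Subgroup.eq_bot_iff_forall _).2 fun u hu => hG.eq_one_of_fix_nine hcl hu.1 fun S hS => ?_
      have hZp : IsPGroup 3 Z := P.isPGroup'.to_le hZP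
      have horb : orbit Z R = nine P := by
        refine Set.eq_of_subset_of_ncard_le ((orbit_line_subset hZP).trans (hG.orbit_nine hR).le) ?_
        rw [h4.2.1, ncard_orbit_eq_relIndex Z hZp, ← Subgroup.inf_relIndex_right,
          show (R : Subgroup G) ⊓ Z = ⊥ from (Subgroup.eq_bot_iff_forall _).2 fun c hc => hZR c hc.2 hc.1,
          Subgroup.relIndex_bot_left, hj]
        norm_num
      rw [← horb] at hS
      obtain ⟨z, rfl⟩ := hS
      have h : u • (z : G) • R = (z : G) • R := by
        rw [← mul_smul, hZc z z.2 u hu.1, mul_smul, smul_sylow_of_mem hu.2]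
      exact (smul_eq_iff_mem P.isPGroup' hu.1).1 h
  have h27 : Nat.card (P : Subgroup G) = 27 := by
    have hXcard := hX.card
    obtain ⟨i, hi⟩ := IsPGroup.iff_card.1 (isPGroup_inter P R)
    rw [hi] at hPcard
    have hi2 : i < 2 := by
      by_contra hc
      have : 3 ^ 2 ≤ 3 ^ i := Nat.pow_le_pow_right (by norm_num) (not_lt.1 hc)
      omega
    interval_cases i
    · exact absurd (by omega) hnot9
    · omega
  have hXYZ : ∀ {X Y : Subgroup G}, Line P X → Line P Y → X ≠ Y → X ⊓ Y = Z := fun hX hY hne =>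
    le_antisymm (hcentXY hX hY hne) (le_inf (hZline _ hX) (hZline _ hY))
  have hfixZ : fixSet Z = near P := by
    ext S
    constructor
    · intro hS hS9
      rw [← hG.orbit_nine hR] at hS9
      obtain ⟨p, rfl⟩ := hS9
      obtain ⟨c, hc, hc1⟩ := (Subgroup.ne_bot_iff_exists_ne_one.1 (by
        intro hbot
        rw [hbot, Subgroup.card_bot] at hZ3
        omega : Z ≠ ⊥)) |> fun ⟨⟨c, hc⟩, h1⟩ => (⟨c, hc, fun h => h1 (Subtype.ext h)⟩ : ∃ c, c ∈ Z ∧ c ≠ 1)
      refine hc1 (hZR c hc ?_)
      have h : c • (p : G) • R = (p : G) • R := smul_sylow_of_mem (hS hc)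
      rw [← mul_smul, ← hZc c hc p p.2, mul_smul, smul_left_cancel_iff] at h
      exact (smul_eq_iff_mem P.isPGroup' (hZP hc)).1 h
    · intro hS
      rcases hG.mem_near.1 hS with rfl | h3
      · exact hZP
      · exact (hZline _ ⟨S, h3, rfl⟩).trans inf_le_right
  -- a subgroup of order three that is not conjugate to the centre
  obtain ⟨u, huX, huZ⟩ : ∃ u ∈ X, u ∉ Z := by
    refine SetLike.not_le_iff_exists.1 fun h => ?_
    have := Nat.le_of_dvd Nat.card_pos (Subgroup.card_dvd_of_le h)
    have := hX.card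
    omega
  have hu1 : u ≠ 1 := fun h => huZ (h ▸ one_mem Z)
  have hu3 : Nat.card (Subgroup.zpowers u) = 3 := by
    rw [Nat.card_zpowers]
    exact orderOf_eq_prime (hG.line_elementary hall hX huX huX).2 hu1
  have hfixU : (fixSet (Subgroup.zpowers u)).ncard ≠ 13 := by
    intro h
    have hsub : fixSet (Subgroup.zpowers u) ⊆ fixSet X ∪ nine P := by
      intro S hS
      rcases hG.eq_or_mem P S with rfl | h3 | h3
      · exact Or.inl hX.mem_fixSet
      · left
        by_contra hSX
        have hne : X ≠ (P : Subgroup G) ⊓ S := fun e => hSX (e ▸ inf_le_right : X ≤ S)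
        apply huZ
        rw [← hXYZ hX ⟨S, h3, rfl⟩ hne]
        exact ⟨huX, hX.le huX, hS (Subgroup.mem_zpowers u)⟩
      · exact Or.inr h3
    have heq : fixSet (Subgroup.zpowers u) = fixSet X ∪ nine P := by
      refine Set.eq_of_subset_of_ncard_le hsub ?_
      have := Set.ncard_union_le (fixSet X) (nine P)
      have := h4.2.2.1 X hX
      omega
    refine hu1 (hG.eq_one_of_fix_nine hcl (hX.le huX) fun S hS => ?_)
    exact (heq.symm ▸ Or.inr hS : S ∈ fixSet (Subgroup.zpowers u)) (Subgroup.mem_zpowers u)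
  -- count the conjugates of the centre inside `P`
  classical
  have : Fintype G := Fintype.ofFinite G
  have : Fintype (Subgroup G) := Fintype.ofFinite _
  set T : Set (Subgroup G) := {W | (∃ g : G, W = MulAut.conj g • Z) ∧ W ≤ P} with hT
  have hT3 : ∀ W ∈ T, Nat.card W = 3 := by
    rintro W ⟨⟨g, rfl⟩, -⟩
    rw [← Nat.card_congr (Subgroup.equivSMul (MulAut.conj g) Z).toEquiv, hZ3]
  have hTU : Subgroup.zpowers u ∉ T := by
    rintro ⟨⟨g, hg⟩, -⟩
    apply hfixU
    rw [hg, ncard_fixSet_smul, hfixZ, hG.ncard_near (hall P)]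
  have hTk : T.ncard ≤ 12 := by
    let A : Subgroup G → Finset G := fun W => (W : Set G).toFinset.erase 1
    have hA : ∀ W : Subgroup G, (A W).card + 1 = Nat.card W := by
      intro W
      change ((W : Set G).toFinset.erase 1).card + 1 = Nat.card (W : Set G)
      rw [Finset.card_erase_add_one (by simp), Nat.card_coe_set_eq, Set.ncard_eq_toFinset_card']
    have hUc : ∀ W : Subgroup G, Nat.card W = 3 → ∀ a ∈ A W, W = Subgroup.zpowers a := by
      intro W hW a ha
      simp only [A, Finset.mem_erase, Set.mem_toFinset, SetLike.mem_coe] at ha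
      refine (Subgroup.eq_of_le_of_card_ge (Subgroup.zpowers_le.2 ha.2) ?_).symm
      have h1 := Subgroup.card_dvd_of_le (Subgroup.zpowers_le.2 ha.2)
      rw [hW] at h1
      rcases (Nat.dvd_prime Nat.prime_three).1 h1 with h | h
      · rw [Nat.card_zpowers, orderOf_eq_one_iff] at h; exact absurd h ha.1
      · omega
    have hTins : ∀ W ∈ insert (Subgroup.zpowers u) T, Nat.card W = 3 := by
      rintro W (rfl | hW)
      · exact hu3
      · exact hT3 W hW
    have hcard : ((insert (Subgroup.zpowers u) T).toFinset.biUnion A).card =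
        2 * (insert (Subgroup.zpowers u) T).ncard := by
      rw [Finset.card_biUnion, Finset.sum_const_nat (m := 2), Set.ncard_eq_toFinset_card', mul_comm]
      · intro W hW
        have := hA W
        have := hTins W (by simpa using hW)
        omega
      · intro V hV W hW hne
        rw [Function.onFun, Finset.disjoint_left]
        intro a haV haW
        exact hne ((hUc V (hTins V (by simpa using hV)) a haV).trans
          (hUc W (hTins W (by simpa using hW)) a haW).symm)
    have hle : ((insert (Subgroup.zpowers u) T).toFinset.biUnion A).card ≤ (A P).card := by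
      refine Finset.card_le_card fun a ha => ?_
      simp only [Finset.mem_biUnion, A, Finset.mem_erase, Set.mem_toFinset, SetLike.mem_coe] at ha ⊢
      obtain ⟨W, hW, ha1, haW⟩ := ha
      rcases hW with rfl | hW
      · exact ⟨ha1, (Subgroup.zpowers_le.2 (hX.le huX)) haW⟩
      · exact ⟨ha1, hW.2 haW⟩
    have := hA P
    rw [hcard, Set.ncard_insert_of_notMem hTU] at hle
    omega
  have hT0 : 0 < T.ncard :=
    (Set.ncard_pos (Set.toFinite _)).2 ⟨Z, ⟨1, by rw [map_one, one_smul]⟩, hZP⟩
  have hcount := hG.count_conj Z P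
  rw [← hT, hfixZ, hG.ncard_near (hall P)] at hcount
  omega

/-- With an orbit of size nine, the Sylow subgroups are elementary abelian of order nine. -/
theorem Setting.card_eq_nine (hG : Setting G) (hall : ∀ P : Sylow 3 G, (nine P).Nonempty)
    (P : Sylow 3 G) : Nat.card (P : Subgroup G) = 9 ∧ IsMulCommutative (P : Subgroup G) := by
  have : Fact (Nat.Prime 3) := ⟨Nat.prime_three⟩
  have hab : IsMulCommutative (P : Subgroup G) :=
    ⟨⟨fun a b => Subtype.ext (hG.commute_of_nine hall P a a.2 b b.2)⟩⟩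
  refine ⟨?_, hab⟩
  obtain ⟨g, hg⟩ := Cfsg.Agent.S0060.result 3 P hab hG.pCore_eq_bot
  have h1 : idx P (g • P) = Nat.card (P : Subgroup G) := by
    have h := idx_mul_card P (g • P)
    rw [show ((g • P : Sylow 3 G) : Subgroup G) = MulAut.conj g • (P : Subgroup G) from rfl] at h
    rwa [hg, Subgroup.card_bot, mul_one] at h
  obtain ⟨R, hR⟩ := hall P
  have h2 : 9 ∣ Nat.card (P : Subgroup G) := ⟨_, ((idx_mul_card P R).symm.trans (by
    rw [idx_eq_nine_of_mem hR]))⟩
  have h3 := Nat.le_of_dvd Nat.card_pos h2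
  by_cases hP : g • P = P
  · rw [hP, idx_self] at h1; omega
  · rcases hG.idx_cases hP with h | h <;> omega

end CfsgLib.TwentyTwo
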