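import Mathlib

/-!
Sign and fixed points of involutory permutations.
-/

set_option autoImplicit false
open MulAction

namespace CfsgLib.TwentyTwo

theorem sign_ne_one_of_involution {α : Type*} [Fintype α] [DecidableEq α] {f : Equiv.Perm α}
    (hf : f * f = 1) {m k : ℕ} (hfix : {a | f a = a}.ncard = m) (hcard : Fintype.card α = m + 2 * k)
    (hk : Odd k) : Equiv.Perm.sign f ≠ 1 := by
  have hsupp : f.support.card = 2 * k := by
    have h1 : {a | f a = a} = ((f.supportᶜ : Finset α) : Set α) := by ext a; simp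
    rw [h1, Set.ncard_coe_finset, Finset.card_compl] at hfix
    have := Finset.card_le_univ f.support
    omega
  have hall : ∀ i ∈ f.cycleType, i = 2 := by
    intro i hi
    have h1 := Equiv.Perm.two_le_of_mem_cycleType hi
    have h2 : orderOf f ∣ 2 := orderOf_dvd_of_pow_eq_one (by rw [pow_two, hf])
    have h3 := (Equiv.Perm.dvd_of_mem_cycleType hi).trans h2
    have := Nat.le_of_dvd (by norm_num) h3
    omega
  have hrep : f.cycleType = Multiset.replicate f.cycleType.card 2 :=
    Multiset.eq_replicate.2 ⟨rfl, hall⟩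
  have hsum := Equiv.Perm.sum_cycleType f
  rw [hrep, Multiset.sum_replicate, smul_eq_mul, hsupp] at hsum
  rw [Equiv.Perm.sign_of_cycleType, hrep, Multiset.sum_replicate, Multiset.card_replicate, smul_eq_mul,
    show Multiset.card f.cycleType = k by omega]
  obtain ⟨j, rfl⟩ := hk
  rw [show (2 * j + 1) * 2 + (2 * j + 1) = 2 * (3 * j + 1) + 1 by ring, pow_add, pow_mul]
  simp

theorem exists_fixed_of_odd {G α : Type*} [Group G] [MulAction G α] [Finite α] {n : G}
    (hn : n * n = 1) {S : Set α} (hodd : Odd S.ncard) (hinv : ∀ a ∈ S, n • a ∈ S) :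
    ∃ a ∈ S, n • a = a := by
  classical
  have : Fintype α := Fintype.ofFinite α
  let f : S → S := fun a => ⟨n • a.1, hinv a.1 a.2⟩
  have hf : Function.Involutive f := fun a => Subtype.ext (by
    change n • n • a.1 = a.1
    rw [← mul_smul, hn, one_smul])
  let e : Equiv.Perm S := hf.toPerm f
  have he : e ^ 2 ^ 1 = 1 := by
    rw [pow_one, pow_two]; exact Equiv.ext fun a => hf a
  have hndvd : ¬ 2 ∣ Fintype.card S := by
    rw [← Nat.card_eq_fintype_card, Nat.card_coe_set_eq]
    exact fun h => Nat.not_even_iff_odd.2 hodd (even_iff_two_dvd.2 h)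
  have : Fact (Nat.Prime 2) := ⟨Nat.prime_two⟩
  obtain ⟨a, ha⟩ := Equiv.Perm.exists_fixed_point_of_prime hndvd he
  exact ⟨a.1, a.2, congrArg Subtype.val ha⟩

end CfsgLib.TwentyTwo
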