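import Cfsg.Agent.Lib.TwentyTwo.NineAbelian
import Cfsg.Agent.Lib.TwentyTwo.Parity

/-!
With an orbit of size nine the Sylow normalizer has order `9 * d` with `d ∣ 8`.
-/

set_option autoImplicit false
open scoped Pointwise
open MulAction

namespace CfsgLib.TwentyTwo

variable {G : Type*} [Group G] [Finite G]

theorem mem_of_card_three {W : Subgroup G} (hW : Nat.card W = 3) {x a : G} (hx : x ∈ W) (hx1 : x ≠ 1)
    (ha : a ∈ W) : a = 1 ∨ a = x ∨ a = x⁻¹ := by
  have hord : orderOf x = 3 := orderOf_eq_prime (p := 3) (by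
    have h := pow_card_eq_one' (x := (⟨x, hx⟩ : W))
    rw [hW] at h
    exact congrArg Subtype.val h) hx1
  have hzp : Subgroup.zpowers x = W := Subgroup.eq_of_le_of_card_ge (Subgroup.zpowers_le.2 hx)
    (by rw [Nat.card_zpowers, hord, hW])
  rw [← hzp, ← mem_powers_iff_mem_zpowers] at ha
  obtain ⟨k, rfl⟩ := ha
  change x ^ k = 1 ∨ x ^ k = x ∨ x ^ k = x⁻¹
  rw [← pow_mod_orderOf, hord]
  have : k % 3 < 3 := Nat.mod_lt _ (by norm_num)
  interval_cases hk : k % 3
  · left; rw [pow_zero]
  · right; left; rw [pow_one]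
  · right; right
    refine eq_inv_of_mul_eq_one_left ?_
    rw [← pow_succ, show (2 : ℕ) + 1 = orderOf x from hord.symm]
    exact pow_orderOf_eq_one x

/-- Data of two lines through a Sylow subgroup of order nine. -/
structure Frame (P : Sylow 3 G) (A B : Subgroup G) : Prop where
  card : Nat.card (P : Subgroup G) = 9
  commute : ∀ a ∈ P, ∀ b ∈ P, a * b = b * a
  lineA : Line P A
  lineB : Line P B
  ne : A ≠ B

theorem Frame.symm {P : Sylow 3 G} {A B : Subgroup G} (h : Frame P A B) : Frame P B A :=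
  ⟨h.card, h.commute, h.lineB, h.lineA, h.ne.symm⟩

theorem Line.card_three {P : Sylow 3 G} {X : Subgroup G} (hX : Line P X)
    (h9 : Nat.card (P : Subgroup G) = 9) : Nat.card X = 3 := by
  have := hX.card
  omega

theorem Line.inf_eq_bot {P : Sylow 3 G} {X Y : Subgroup G} (hX : Line P X) (hY : Line P Y)
    (h9 : Nat.card (P : Subgroup G) = 9) (hne : X ≠ Y) : X ⊓ Y = ⊥ := by
  have : Fact (Nat.Prime 3) := ⟨Nat.prime_three⟩
  by_contra h
  have h1 := Subgroup.card_dvd_of_le (inf_le_left : X ⊓ Y ≤ X)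
  rw [hX.card_three h9] at h1
  rcases (Nat.dvd_prime Nat.prime_three).1 h1 with h2 | h2
  · exact h (Subgroup.card_eq_one.1 h2)
  · refine hne ((Subgroup.eq_of_le_of_card_ge inf_le_left ?_).symm.trans
      (Subgroup.eq_of_le_of_card_ge (inf_le_right : X ⊓ Y ≤ Y) ?_))
    · rw [h2, hX.card_three h9]
    · rw [h2, hY.card_three h9]

theorem Frame.exists_mul {P : Sylow 3 G} {A B : Subgroup G} (h : Frame P A B) {p : G} (hp : p ∈ P) :
    ∃ a ∈ A, ∃ b ∈ B, p = a * b := by
  have hne : ¬ B ≤ A := fun hle => h.ne (Subgroup.eq_of_le_of_card_ge hle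
    (by rw [h.lineA.card_three h.card, h.lineB.card_three h.card])).symm
  have hN : B ≤ Subgroup.normalizer (A : Set G) := fun b hb => h.lineA.le_normalizer (h.lineB.le hb)
  have hsup := h.lineA.sup_eq h.lineB.le hne
  have h1 : p ∈ ((A ⊔ B : Subgroup G) : Set G) := by rw [hsup]; exact hp
  rw [Subgroup.coe_mul_of_right_le_normalizer_left A B hN] at h1
  obtain ⟨a, ha, b, hb, hab⟩ := h1
  exact ⟨a, ha, b, hb, hab.symm⟩

theorem Setting.exists_frame (hG : Setting G) (hall : ∀ P : Sylow 3 G, (nine P).Nonempty)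
    (P : Sylow 3 G) : ∃ A B : Subgroup G, Frame P A B := by
  obtain ⟨h9, hab⟩ := hG.card_eq_nine hall P
  obtain ⟨X, hX, Y, hY, hne⟩ := (Set.one_lt_ncard (Set.toFinite _)).1 (by
    rw [(hG.line_four (hall P)).2.2.2]; norm_num : 1 < {X | Line P X}.ncard)
  exact ⟨X, Y, h9, fun a ha b hb => congrArg Subtype.val (hab.is_comm.comm ⟨a, ha⟩ ⟨b, hb⟩), hX, hY, hne⟩

/-- Every nontrivial element of `P` lies on a line. -/
theorem Setting.exists_line_mem (hG : Setting G) (hall : ∀ P : Sylow 3 G, (nine P).Nonempty)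
    {P : Sylow 3 G} {p : G} (hp : p ∈ P) (hp1 : p ≠ 1) : ∃ X, Line P X ∧ p ∈ X := by
  classical
  obtain ⟨h9, -⟩ := hG.card_eq_nine hall P
  have : Fintype (Subgroup G) := Fintype.ofFinite _
  have : Fintype G := Fintype.ofFinite G
  let A : Subgroup G → Finset G := fun W => (W : Set G).toFinset.erase 1
  have hA : ∀ W : Subgroup G, (A W).card + 1 = Nat.card W := by
    intro W
    change ((W : Set G).toFinset.erase 1).card + 1 = Nat.card (W : Set G)
    rw [Finset.card_erase_add_one (by simp), Nat.card_coe_set_eq, Set.ncard_eq_toFinset_card']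
  have hcard : ({X | Line P X}.toFinset.biUnion A).card = 8 := by
    rw [Finset.card_biUnion, Finset.sum_const_nat (m := 2), ← Set.ncard_eq_toFinset_card',
      (hG.line_four (hall P)).2.2.2]
    · intro W hW
      have := hA W
      have := (show Line P W by simpa using hW).card_three h9
      omega
    · intro V hV W hW hne
      rw [Function.onFun, Finset.disjoint_left]
      intro a haV haW
      simp only [A, Finset.mem_erase, Set.mem_toFinset, SetLike.mem_coe] at haV haW
      have h2 := (show Line P V by simpa using hV).inf_eq_bot (show Line P W by simpa using hW) h9 hne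
      have h3 : a ∈ V ⊓ W := ⟨haV.2, haW.2⟩
      rw [h2, Subgroup.mem_bot] at h3
      exact haV.1 h3
  have heq : {X | Line P X}.toFinset.biUnion A = A P := by
    refine Finset.eq_of_subset_of_card_le (fun a ha => ?_) ?_
    · simp only [Finset.mem_biUnion, A, Finset.mem_erase, Set.mem_toFinset, SetLike.mem_coe,
        Set.mem_ofPred_eq] at ha ⊢
      obtain ⟨W, hW, ha1, haW⟩ := ha
      exact ⟨ha1, hW.le haW⟩
    · have := hA P
      omega
  have hmem : p ∈ {X | Line P X}.toFinset.biUnion A := by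
    rw [heq]; simp [A, hp, hp1]
  simp only [Finset.mem_biUnion, A, Finset.mem_erase, Set.mem_toFinset, SetLike.mem_coe,
    Set.mem_ofPred_eq] at hmem
  obtain ⟨W, hW, -, hpW⟩ := hmem
  exact ⟨W, hW, hpW⟩

theorem Setting.inf_nine_eq_bot (hG : Setting G) (hall : ∀ P : Sylow 3 G, (nine P).Nonempty)
    {P R : Sylow 3 G} (hR : R ∈ nine P) : (P : Subgroup G) ⊓ R = ⊥ := by
  have h := idx_mul_card P R
  rw [idx_eq_nine_of_mem hR, (hG.card_eq_nine hall P).1] at h
  exact Subgroup.card_eq_one.1 (by omega)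

omit [Finite G] in
theorem pow_smul_eq {α : Type*} [MulAction G α] {d q : G} {S : α} (hc : q * d = d * q)
    (h : q • S = d • S) (k : ℕ) : d ^ k • S = q ^ k • S := by
  induction k with
  | zero => simp
  | succ k ih =>
    rw [pow_succ, mul_smul, ← h, ← mul_smul, ← (Commute.pow_right (show Commute q d from hc) k).eq,
      mul_smul, ih, ← mul_smul, ← pow_succ']

omit [Finite G] in
theorem idx_smul_of_mem_normalizer {P R : Sylow 3 G} {g : G}
    (hg : g ∈ Subgroup.normalizer ((P : Subgroup G) : Set G)) : idx P (g • R) = idx P R := by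
  conv_lhs => rw [← Sylow.smul_eq_iff_mem_normalizer.2 hg]
  exact idx_conj g P R

/-- The Sylow subgroup is its own centralizer. -/
theorem Setting.centralizer_le (hG : Setting G) (hall : ∀ P : Sylow 3 G, (nine P).Nonempty)
    (P : Sylow 3 G) : Subgroup.centralizer ((P : Subgroup G) : Set G) ≤ P := by
  intro c hc
  have hcomm : ∀ p ∈ P, p * c = c * p := Subgroup.mem_centralizer_iff.1 hc
  have hcN : c ∈ Subgroup.normalizer ((P : Subgroup G) : Set G) :=
    Subgroup.centralizer_le_normalizer _ hc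
  obtain ⟨R, hR⟩ := hall P
  have hcR : c • R ∈ nine P := (idx_smul_of_mem_normalizer hcN).trans hR
  rw [← hG.orbit_nine hR] at hcR
  obtain ⟨π, hπ⟩ := hcR
  have hπ' : (π : G) • R = c • R := hπ
  obtain ⟨d, hd⟩ : ∃ d, d = (π : G)⁻¹ * c := ⟨_, rfl⟩
  have hab := (hG.card_eq_nine hall P).2
  have hdcomm : ∀ p ∈ P, p * d = d * p := by
    intro p hp
    have h1 : p * (π : G) = π * p := congrArg Subtype.val (hab.is_comm.comm ⟨p, hp⟩ π)
    rw [hd, ← mul_assoc, mul_assoc (π : G)⁻¹ c p, ← hcomm p hp, ← mul_assoc,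
      show p * (π : G)⁻¹ = (π : G)⁻¹ * p from (eq_inv_mul_iff_mul_eq.2 (by
        rw [← mul_assoc, ← h1, mul_inv_cancel_right]))]
  have hdR : d • R = R := by rw [hd, mul_smul, ← hπ', inv_smul_smul]
  have hdN : d ∈ Subgroup.normalizer ((P : Subgroup G) : Set G) :=
    Subgroup.centralizer_le_normalizer _ (Subgroup.mem_centralizer_iff.2 hdcomm)
  have hdnine : ∀ S ∈ nine P, d • S = S := by
    intro S hS
    rw [← hG.orbit_nine hR] at hS
    obtain ⟨p, rfl⟩ := hS
    change d • (p : G) • R = (p : G) • R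
    rw [← mul_smul, ← hdcomm p p.2, mul_smul, hdR]
  have hd3 : d ^ 3 = 1 := by
    refine hG.eq_one_of_fix_all fun S => ?_
    rcases hG.eq_or_mem P S with rfl | h3 | h3
    · exact Sylow.smul_eq_iff_mem_normalizer.2 (pow_mem hdN 3)
    · have hX : Line P ((P : Subgroup G) ⊓ S) := ⟨S, h3, rfl⟩
      have hdX : d ∈ Subgroup.normalizer (((P : Subgroup G) ⊓ S : Subgroup G) : Set G) :=
        Subgroup.centralizer_le_normalizer _ (Subgroup.mem_centralizer_iff.2 fun x hx =>
          hdcomm x (inf_le_left (b := (S : Subgroup G)) hx))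
      have h1 : d • S ∈ fixSet ((P : Subgroup G) ⊓ S) :=
        mem_fixSet_smul hdX (inf_le_right : (P : Subgroup G) ⊓ S ≤ S)
      have hne : d • S ≠ P := fun h => not_three_self P (by
        rw [← inv_smul_smul d S, h, Sylow.smul_eq_iff_mem_normalizer.2 (inv_mem hdN)] at h3
        exact h3)
      have h2 : d • S ∈ orbit (P : Subgroup G) S := by
        have h4 : orbit (P : Subgroup G) S = fixSet ((P : Subgroup G) ⊓ S) \ {P} := by
          refine Set.eq_of_subset_of_ncard_le ?_ ?_
          · rintro _ ⟨p, rfl⟩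
            refine ⟨mem_fixSet_smul (hX.le_normalizer p.2) (inf_le_right : (P : Subgroup G) ⊓ S ≤ S),
              fun h => ?_⟩
            have h5 : (p : G) • S = P := h
            rw [← inv_smul_smul (p : G) S, h5, smul_sylow_of_mem (inv_mem p.2)] at h3
            exact not_three_self P h3
          · have h6 := (hG.line_four (hall P)).2.2.1 _ hX
            have h7 := Set.ncard_sdiff_singleton_add_one hX.mem_fixSet
            rw [ncard_orbit, show idx P S = 3 from h3]
            omega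
        rw [h4]; exact ⟨h1, hne⟩
      obtain ⟨⟨q, hq⟩, hq'⟩ := h2
      have hq'' : q • S = d • S := hq'
      have hq3 : q ^ 3 = 1 := by
        obtain ⟨A, B, hF⟩ := hG.exists_frame hall P
        by_cases hq1 : q = 1
        · rw [hq1, one_pow]
        obtain ⟨X, hXl, hqX⟩ := hG.exists_line_mem hall hq hq1
        exact (hG.line_elementary hall hXl hqX hqX).2
      rw [pow_smul_eq (hdcomm q hq) hq'', hq3, one_smul]
    · rw [pow_three, mul_smul, mul_smul, hdnine S h3, hdnine S h3, hdnine S h3]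
  have hdp : IsPGroup 3 (Subgroup.zpowers d) := by
    intro a
    refine ⟨1, Subtype.ext ?_⟩
    obtain ⟨k, hk⟩ := a.2
    rw [Subgroup.coe_pow, Subgroup.coe_one, ← hk, pow_one]
    change (d ^ k) ^ 3 = 1
    rw [← zpow_natCast, ← zpow_mul, mul_comm, zpow_mul, zpow_natCast, hd3, one_zpow]
  have hdP : d ∈ P :=
    (smul_eq_iff_mem hdp (Subgroup.mem_zpowers d)).1 (Sylow.smul_eq_iff_mem_normalizer.2 hdN)
  have hd1 : d = 1 := by
    have : d ∈ (P : Subgroup G) ⊓ R := ⟨hdP, (smul_eq_iff_mem P.isPGroup' hdP).1 hdR⟩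
    rwa [hG.inf_nine_eq_bot hall hR, Subgroup.mem_bot] at this
  rw [hd, inv_mul_eq_one] at hd1
  exact hd1 ▸ π.2

/-- The permutation of lines induced by an element of the normalizer. -/
noncomputable def linePerm (P : Sylow 3 G) :
    Subgroup.normalizer ((P : Subgroup G) : Set G) →* Equiv.Perm {X : Subgroup G // Line P X} :=
  MonoidHom.mk'
    (fun n => Equiv.ofBijective
      (fun X => ⟨MulAut.conj (n : G) • X.1, by
        obtain ⟨R, hR, hXR⟩ := X.2
        refine ⟨(n : G) • R, (idx_smul_of_mem_normalizer n.2).trans hR, ?_⟩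
        conv_lhs => rw [hXR, Subgroup.smul_inf]
        congr 1
        exact Subgroup.mem_normalizer_iff_map_conj_eq.1 n.2⟩)
      (Finite.injective_iff_bijective.1 fun X Y h =>
        Subtype.ext (smul_left_cancel _ (congrArg Subtype.val h))))
    (fun a b => Equiv.ext fun X => Subtype.ext (by
      change MulAut.conj ((a : G) * b) • X.1 = _
      rw [map_mul, mul_smul]
      rfl))

theorem linePerm_apply (P : Sylow 3 G) (n : Subgroup.normalizer ((P : Subgroup G) : Set G))
    (X : {X : Subgroup G // Line P X}) : (linePerm P n X).1 = MulAut.conj (n : G) • X.1 := rfl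

theorem conj_smul_mem {X Y : Subgroup G} {n a : G} (h : MulAut.conj n • X = Y) (ha : a ∈ X) :
    n * a * n⁻¹ ∈ Y := by
  rw [← h]
  exact Subgroup.smul_mem_pointwise_smul a (MulAut.conj n) X ha

/-- An element fixing three lines that centralises one of them centralises `P`. -/
theorem Setting.centralizes_of_fix (hG : Setting G) (hall : ∀ P : Sylow 3 G, (nine P).Nonempty)
    {P : Sylow 3 G} {A B C : Subgroup G} (hF : Frame P A B) (hC : Line P C) (hCA : C ≠ A) (hCB : C ≠ B)
    {n : G} (hB : MulAut.conj n • B = B) (hC' : MulAut.conj n • C = C)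
    (hAc : ∀ a ∈ A, n * a = a * n) : n ∈ P := by
  have h9 := hF.card
  obtain ⟨w, hwC, hw1⟩ : ∃ w ∈ C, w ≠ 1 := by
    by_contra! h
    have := hC.card_three h9
    rw [(Subgroup.eq_bot_iff_forall C).2 h, Subgroup.card_bot] at this
    omega
  obtain ⟨a, ha, b, hb, hwab⟩ := hF.exists_mul (hC.le hwC)
  have hb1 : b ≠ 1 := by
    rintro rfl
    have h2 : w ∈ C ⊓ A := ⟨hwC, by rwa [hwab, mul_one]⟩
    rw [hC.inf_eq_bot hF.lineA h9 hCA, Subgroup.mem_bot] at h2
    exact hw1 h2
  have ha1 : a ≠ 1 := by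
    rintro rfl
    have h2 : w ∈ C ⊓ B := ⟨hwC, by rwa [hwab, one_mul]⟩
    rw [hC.inf_eq_bot hF.lineB h9 hCB, Subgroup.mem_bot] at h2
    exact hw1 h2
  have hnw := conj_smul_mem hC' hwC
  have hnb := conj_smul_mem hB hb
  have e1 : n * w * n⁻¹ = a * (n * b * n⁻¹) := by
    rw [hwab, ← mul_assoc n a b, hAc a ha]; group
  -- the image of `b` is `b` itself
  have hdiff : a * (n * b * n⁻¹) * w⁻¹ ∈ C := mul_mem (e1 ▸ hnw) (inv_mem hwC)
  have hdiffB : a * (n * b * n⁻¹) * w⁻¹ ∈ B := by
    have h3 : a * (n * b * n⁻¹) * w⁻¹ = (n * b * n⁻¹) * b⁻¹ := by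
      rw [hwab, hF.commute a (hF.lineA.le ha) _ (hF.lineB.le hnb),
        hF.commute a (hF.lineA.le ha) b (hF.lineB.le hb)]
      group
    rw [h3]
    exact mul_mem hnb (inv_mem hb)
  have h4 : a * (n * b * n⁻¹) * w⁻¹ ∈ C ⊓ B := ⟨hdiff, hdiffB⟩
  rw [hC.inf_eq_bot hF.lineB h9 hCB, Subgroup.mem_bot, mul_inv_eq_one, hwab, mul_left_cancel_iff,
    mul_inv_eq_iff_eq_mul] at h4
  refine hG.centralizer_le hall P (Subgroup.mem_centralizer_iff.2 fun p hp => ?_)
  obtain ⟨a', ha', b', hb', rfl⟩ := hF.exists_mul hp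
  have hbc : n * b' = b' * n := by
    rcases mem_of_card_three (hF.lineB.card_three h9) hb hb1 hb' with rfl | rfl | rfl
    · simp
    · exact h4
    · calc n * b⁻¹ = b⁻¹ * (b * n) * b⁻¹ := by group
        _ = b⁻¹ * (n * b) * b⁻¹ := by rw [h4]
        _ = b⁻¹ * n := by group
  rw [mul_assoc, ← hbc, ← mul_assoc, ← hAc a' ha', mul_assoc]

end CfsgLib.TwentyTwo
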