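import Cfsg.Agent.Lib.TwentyTwo.NineNormalizer

/-!
With an orbit of size nine, the index of `P` in its normalizer divides eight.
-/

set_option autoImplicit false
open scoped Pointwise
open MulAction

namespace CfsgLib.TwentyTwo

variable {G : Type*} [Group G] [Finite G]

theorem Setting.linePerm_ker (hG : Setting G) (hall : ∀ P : Sylow 3 G, (nine P).Nonempty)
    (P : Sylow 3 G) : Nat.card (linePerm P).ker ∣ 18 := by
  obtain ⟨A, B, hF⟩ := hG.exists_frame hall P
  have h9 := hF.card
  obtain ⟨C, hC, hCne⟩ : ∃ C ∈ {X | Line P X}, C ∉ ({A, B} : Set (Subgroup G)) := by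
    refine Set.exists_mem_notMem_of_ncard_lt_ncard ?_ (Set.toFinite _)
    rw [(hG.line_four (hall P)).2.2.2]
    exact (Set.ncard_insert_le _ _).trans_lt (by rw [Set.ncard_singleton]; norm_num)
  simp only [Set.mem_insert_iff, Set.mem_singleton_iff, not_or] at hCne
  set K := (linePerm P).ker.map (Subgroup.normalizer ((P : Subgroup G) : Set G)).subtype with hK
  have hKfix : ∀ n ∈ K, ∀ X, Line P X → MulAut.conj n • X = X := by
    rintro _ ⟨n, hn, rfl⟩ X hX
    have h := congrArg (fun e : Equiv.Perm {X : Subgroup G // Line P X} => (e ⟨X, hX⟩).1)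
      (MonoidHom.mem_ker.1 hn)
    exact (linePerm_apply P n ⟨X, hX⟩).symm.trans h
  have hcard : Nat.card K = Nat.card (linePerm P).ker :=
    Subgroup.card_map_of_injective (Subgroup.normalizer ((P : Subgroup G) : Set G)).subtype_injective
  rw [← hcard]
  have hPK : (P : Subgroup G) ≤ K := by
    intro p hp
    refine ⟨⟨p, Subgroup.le_normalizer hp⟩, MonoidHom.mem_ker.2 (Equiv.ext fun X => Subtype.ext ?_), rfl⟩
    rw [linePerm_apply]
    exact Subgroup.mem_normalizer_iff_map_conj_eq.1 (X.2.le_normalizer hp)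
  obtain ⟨x, hxA, hx1⟩ : ∃ x ∈ A, x ≠ 1 := by
    by_contra! h
    have := hF.lineA.card_three h9
    rw [(Subgroup.eq_bot_iff_forall A).2 h, Subgroup.card_bot] at this
    omega
  have hA3 := hF.lineA.card_three h9
  have hcent : ∀ n ∈ K, n * x * n⁻¹ = x → n ∈ P := by
    intro n hn hnx
    rw [mul_inv_eq_iff_eq_mul] at hnx
    refine hG.centralizes_of_fix hall hF hC hCne.1 hCne.2 (hKfix n hn B hF.lineB) (hKfix n hn C hC) ?_
    intro a ha
    rcases mem_of_card_three hA3 hxA hx1 ha with rfl | rfl | rfl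
    · simp
    · exact hnx
    · calc n * x⁻¹ = x⁻¹ * (x * n) * x⁻¹ := by group
        _ = x⁻¹ * (n * x) * x⁻¹ := by rw [hnx]
        _ = x⁻¹ * n := by group
  have hP9 := Subgroup.relIndex_mul_relIndex (⊥ : Subgroup G) (P : Subgroup G) K bot_le hPK
  rw [Subgroup.relIndex_bot_left, Subgroup.relIndex_bot_left, h9] at hP9
  rw [← hP9]
  by_cases hKP : K ≤ P
  · rw [Subgroup.relIndex_eq_one.2 hKP]; norm_num
  obtain ⟨a, haK, haP⟩ := SetLike.not_le_iff_exists.1 hKP
  have hinv : ∀ n ∈ K, n ∉ P → n * x * n⁻¹ = x⁻¹ := by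
    intro n hn hnP
    have hmem := conj_smul_mem (hKfix n hn A hF.lineA) hxA
    rcases mem_of_card_three hA3 hxA hx1 hmem with h | h | h
    · exact absurd (by simpa using h) hx1
    · exact absurd (hcent n hn h) hnP
    · exact h
  have h2 : (P : Subgroup G).relIndex K = 2 := by
    rw [Subgroup.relIndex_eq_two_iff]
    refine ⟨a, haK, fun b hb => ?_⟩
    by_cases hbP : b ∈ P
    · refine Or.inr ⟨hbP, fun hba => haP ?_⟩
      have := mul_mem (inv_mem hbP) hba
      rwa [inv_mul_cancel_left] at this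
    · refine Or.inl ⟨hcent (b * a) (mul_mem hb haK) ?_, hbP⟩
      calc b * a * x * (b * a)⁻¹ = b * (a * x * a⁻¹) * b⁻¹ := by group
        _ = (b * x * b⁻¹)⁻¹ := by rw [hinv a haK haP]; group
        _ = x := by rw [hinv b hb hbP, inv_inv]
  rw [h2]

/-- An element swapping two lines and fixing the other two acts oddly. -/
theorem Setting.false_of_transposition (hG : Setting G) (hall : ∀ P : Sylow 3 G, (nine P).Nonempty)
    {P : Sylow 3 G} {A B C D : Subgroup G} (hF : Frame P A B) (hC : Line P C) (hCne : C ≠ D)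
    (hlines : ∀ X, Line P X → X = A ∨ X = B ∨ X = C ∨ X = D) {n : G}
    (hn : n ∈ Subgroup.normalizer ((P : Subgroup G) : Set G))
    (hB : MulAut.conj n • B = B) (hCD : MulAut.conj n • C = D) (hDC : MulAut.conj n • D = C)
    (hn2 : n * n = 1) (hAc : ∀ a ∈ A, n * a = a * n) (hBi : ∀ b ∈ B, n * b * n⁻¹ = b⁻¹) : False := by
  classical
  have h9 := hF.card
  have hfour := hG.line_four (hall P)
  have hA3 := hF.lineA.card_three h9
  have hB3 := hF.lineB.card_three h9
  have hnB : n ∈ Subgroup.normalizer (B : Set G) := Subgroup.mem_normalizer_iff_map_conj_eq.2 hB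
  have hnA : n ∈ Subgroup.normalizer (A : Set G) := by
    refine Subgroup.mem_normalizer_iff.2 fun a => ⟨fun ha => ?_, fun ha => ?_⟩
    · rw [hAc a ha, mul_inv_cancel_right]; exact ha
    · have h3 : n * a * n⁻¹ = a := mul_left_cancel ((hAc _ ha).trans (inv_mul_cancel_right _ _))
      rwa [h3] at ha
  have hnP : n • P = P := Sylow.smul_eq_iff_mem_normalizer.2 hn
  have hpt : ∀ X, Line P X → ∀ R ∈ fixSet X \ {P},
      orbit (P : Subgroup G) R = fixSet X \ {P} := by
    intro X hX R hR
    have hR3 := (hG.line_of_mem_fixSet hX hR.1 hR.2).1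
    refine Set.eq_of_subset_of_ncard_le ?_ ?_
    · rintro _ ⟨p, rfl⟩
      refine ⟨mem_fixSet_smul (hX.le_normalizer p.2) hR.1, fun h => hR.2 ?_⟩
      have h5 : (p : G) • R = P := h
      rw [Set.mem_singleton_iff, ← inv_smul_smul (p : G) R, h5, smul_sylow_of_mem (inv_mem p.2)]
    · have h6 := hfour.2.2.1 X hX
      have h7 := Set.ncard_sdiff_singleton_add_one hX.mem_fixSet
      rw [ncard_orbit, show idx P R = 3 from hR3]
      omega
  have hinvX : ∀ X : Subgroup G, n ∈ Subgroup.normalizer (X : Set G) → ∀ R ∈ fixSet X \ {P}, n • R ∈ fixSet X \ {P} := by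
    intro X hX R hR
    exact ⟨mem_fixSet_smul hX hR.1, fun h => hR.2 (smul_left_cancel n (h.trans hnP.symm))⟩
  have hodd : ∀ X, Line P X → Odd (fixSet X \ {P}).ncard := by
    intro X hX
    have h6 := hfour.2.2.1 X hX
    have h7 := Set.ncard_sdiff_singleton_add_one hX.mem_fixSet
    exact ⟨1, by omega⟩
  -- how `n` moves the translates of a fixed point
  have hmove : ∀ (R : Sylow 3 G), n • R = R → ∀ a ∈ A, ∀ b ∈ B,
      n • (a * b) • R = (a * b⁻¹) • R := by
    intro R hR a ha b hb
    rw [← mul_smul]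
    conv_rhs => rw [← hR, ← mul_smul]
    congr 1
    calc n * (a * b) = a * (n * b * n⁻¹) * n := by rw [← mul_assoc, hAc a ha]; group
      _ = a * b⁻¹ * n := by rw [hBi b hb]
  obtain ⟨RA, hRA, hnRA⟩ := exists_fixed_of_odd hn2 (hodd A hF.lineA) (hinvX A hnA)
  obtain ⟨RB, hRB, hnRB⟩ := exists_fixed_of_odd hn2 (hodd B hF.lineB) (hinvX B hnB)
  obtain ⟨R0, hR0, hnR0⟩ := exists_fixed_of_odd hn2 (S := nine P) (by rw [hfour.2.1]; exact ⟨4, rfl⟩)
    (fun R hR => (idx_smul_of_mem_normalizer hn).trans hR)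
  have hset : {S : Sylow 3 G | toPermHom G (Sylow 3 G) n S = S} =
      {P} ∪ {RA} ∪ (fixSet B \ {P}) ∪ orbit A R0 := by
    ext S
    change n • S = S ↔ _
    simp only [Set.mem_union, Set.mem_singleton_iff]
    constructor
    · intro hS
      rcases hG.eq_or_mem P S with rfl | h3 | h3
      · exact Or.inl (Or.inl (Or.inl rfl))
      · have hX : Line P ((P : Subgroup G) ⊓ S) := ⟨S, h3, rfl⟩
        have hSX : S ∈ fixSet ((P : Subgroup G) ⊓ S) \ {P} := by
          rw [hG.fixSet_sdiff hX]; exact ⟨h3, rfl⟩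
        have hfixX : MulAut.conj n • ((P : Subgroup G) ⊓ S) = (P : Subgroup G) ⊓ S := by
          rw [Subgroup.smul_inf]
          change ((n • P : Sylow 3 G) : Subgroup G) ⊓ ((n • S : Sylow 3 G) : Subgroup G) = _
          rw [hnP, hS]
        rcases hlines _ hX with h | h | h | h
        · rw [h, ← hpt A hF.lineA RA hRA] at hSX
          obtain ⟨p, rfl⟩ := hSX
          obtain ⟨a, ha, b, hb, hab⟩ := hF.exists_mul p.2
          have hS' : n • (p : G) • RA = (p : G) • RA := hS
          rw [hab, hmove RA hnRA a ha b hb, mul_smul, mul_smul, smul_left_cancel_iff] at hS'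
          left; left; right
          change (p : G) • RA = RA
          have hbR : b • RA = RA := by
            rcases eq_or_ne b 1 with rfl | hb1
            · exact one_smul _ _
            · have h2 : (b * b) • RA = RA := by
                rw [mul_smul]
                rw [← hS', smul_inv_smul]
              have h3 : b ^ 3 = 1 := (hG.line_elementary hall hF.lineB hb hb).2
              calc b • RA = b • (b * b) • RA := by rw [h2]
                _ = (b ^ 3) • RA := by rw [← mul_smul, pow_three]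
                _ = RA := by rw [h3, one_smul]
          rw [hab, mul_smul, hbR, smul_sylow_of_mem ((hRA.1 : A ≤ RA) ha)]
        · rw [h] at hSX; exact Or.inl (Or.inr hSX)
        · rw [h, hCD] at hfixX; exact absurd hfixX (Ne.symm hCne)
        · rw [h, hDC] at hfixX; exact absurd hfixX hCne
      · rw [← hG.orbit_nine hR0] at h3
        obtain ⟨p, rfl⟩ := h3
        obtain ⟨a, ha, b, hb, hab⟩ := hF.exists_mul p.2
        have hS' : n • (p : G) • R0 = (p : G) • R0 := hS
        rw [hab, hmove R0 hnR0 a ha b hb, mul_smul, mul_smul, smul_left_cancel_iff] at hS'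
        right
        refine ⟨⟨a, ha⟩, ?_⟩
        change a • R0 = (p : G) • R0
        have hbP : b * b ∈ (P : Subgroup G) ⊓ R0 := by
          refine ⟨hF.lineB.le (mul_mem hb hb), (smul_eq_iff_mem P.isPGroup' (hF.lineB.le (mul_mem hb hb))).1 ?_⟩
          rw [mul_smul]
          rw [← hS', smul_inv_smul]
        rw [hG.inf_nine_eq_bot hall hR0, Subgroup.mem_bot] at hbP
        have h3 : b ^ 3 = 1 := (hG.line_elementary hall hF.lineB hb hb).2
        rw [pow_three, hbP, mul_one] at h3
        rw [hab, h3, mul_one]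
    · rintro (((rfl | rfl) | hS) | hS)
      · exact hnP
      · exact hnRA
      · rw [← hpt B hF.lineB RB hRB] at hS
        obtain ⟨p, rfl⟩ := hS
        obtain ⟨a, ha, b, hb, hab⟩ := hF.exists_mul p.2
        change n • (p : G) • RB = (p : G) • RB
        rw [hab, hmove RB hnRB a ha b hb, mul_smul, mul_smul,
          smul_sylow_of_mem ((hRB.1 : B ≤ RB) (inv_mem hb)), smul_sylow_of_mem ((hRB.1 : B ≤ RB) hb)]
      · obtain ⟨a, rfl⟩ := hS
        change n • (a : G) • R0 = (a : G) • R0
        have := hmove R0 hnR0 a a.2 1 (one_mem B)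
        simpa using this
  have hdisj1 : RA ≠ P := hRA.2
  have horbA : (orbit A R0).ncard = 3 := by
    rw [ncard_orbit_eq_relIndex A (P.isPGroup'.to_le hF.lineA.le), ← Subgroup.inf_relIndex_right,
      show (R0 : Subgroup G) ⊓ A = ⊥ from le_bot_iff.1 (by
        rw [← hG.inf_nine_eq_bot hall hR0, inf_comm]
        exact inf_le_inf_right _ hF.lineA.le), Subgroup.relIndex_bot_left, hA3]
  have hsubnine : orbit A R0 ⊆ nine P :=
    (orbit_line_subset hF.lineA.le).trans (hG.orbit_nine hR0).le
  have hBthree : fixSet B \ {P} ⊆ three P := fun S hS => (hG.line_of_mem_fixSet hF.lineB hS.1 hS.2).1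
  have hcount : ({P} ∪ {RA} ∪ (fixSet B \ {P}) ∪ orbit A R0 : Set (Sylow 3 G)).ncard = 8 := by
    rw [Set.ncard_union_eq, Set.ncard_union_eq, Set.ncard_union_eq, Set.ncard_singleton,
      Set.ncard_singleton, horbA]
    · have h6 := hfour.2.2.1 B hF.lineB
      have h7 := Set.ncard_sdiff_singleton_add_one hF.lineB.mem_fixSet
      omega
    · exact Set.disjoint_singleton.2 (Ne.symm hdisj1)
    · rw [Set.disjoint_left]
      rintro S (rfl | rfl) hS
      · exact hS.2 rfl
      · exact hF.ne ((hG.line_of_mem_fixSet hF.lineA hRA.1 hRA.2).2.symm.trans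
          (hG.line_of_mem_fixSet hF.lineB hS.1 hS.2).2)
    · rw [Set.disjoint_left]
      intro S hS hS'
      have h9' := hsubnine hS'
      rcases hS with (rfl | rfl) | hS
      · exact not_nine_self _ h9'
      · exact not_three_nine (hG.line_of_mem_fixSet hF.lineA hRA.1 hRA.2).1 h9'
      · exact not_three_nine (hBthree hS) h9'
  have : Fintype (Sylow 3 G) := Fintype.ofFinite _
  refine sign_ne_one_of_involution (f := toPermHom G (Sylow 3 G) n) ?_ (hset ▸ hcount) (k := 7) ?_
    ⟨3, rfl⟩ (hG.sign_eq_one n)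
  · rw [← map_mul, hn2, map_one]
  · rw [← Nat.card_eq_fintype_card, hG.count]

theorem Setting.card_normalizer_nine (hG : Setting G) (hall : ∀ P : Sylow 3 G, (nine P).Nonempty)
    (P : Sylow 3 G) :
    ∃ d, Nat.card (Subgroup.normalizer ((P : Subgroup G) : Set G)) = 9 * d ∧ d ∣ 8 := by
  classical
  have : Fact (Nat.Prime 3) := ⟨Nat.prime_three⟩
  have h9 := (hG.card_eq_nine hall P).1
  set N := Subgroup.normalizer ((P : Subgroup G) : Set G) with hN
  obtain ⟨d, hd⟩ := Subgroup.card_dvd_of_le (Subgroup.le_normalizer : (P : Subgroup G) ≤ N)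
  rw [h9] at hd
  refine ⟨d, hd, ?_⟩
  have hd3 : ¬ 3 ∣ d := by
    intro h
    have hi : ((P : Subgroup G).subgroupOf N).index = d := by
      have h1 := Subgroup.card_mul_index ((P : Subgroup G).subgroupOf N)
      rw [Nat.card_congr (Subgroup.subgroupOfEquivOfLe Subgroup.le_normalizer).toEquiv, h9, hd] at h1
      omega
    exact (P.subtype Subgroup.le_normalizer).not_dvd_index (by rw [Sylow.coe_subtype, hi]; exact h)
  have hlinescard : Nat.card {X : Subgroup G // Line P X} = 4 := by
    rw [← (hG.line_four (hall P)).2.2.2, ← Nat.card_coe_set_eq]; rfl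
  have hperm : Nat.card (Equiv.Perm {X : Subgroup G // Line P X}) = 24 := by
    rw [Nat.card_perm, hlinescard]; rfl
  have hker := hG.linePerm_ker hall P
  have himg : Nat.card (linePerm P).range ∣ 24 := hperm ▸ Subgroup.card_subgroup_dvd_card _
  have hmul := Subgroup.card_mul_index (linePerm P).ker
  rw [Subgroup.index_ker, hd] at hmul
  obtain ⟨d', hd'⟩ : ∃ d', d' ∣ 48 ∧ d = d' := by
    refine ⟨d, ?_, rfl⟩
    have h1 : 9 * d ∣ 18 * 24 := hmul ▸ Nat.mul_dvd_mul hker himg
    exact Nat.dvd_of_mul_dvd_mul_left (by norm_num : 0 < 9) (by exact h1)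
  have hd16 : d ∣ 16 := by
    have hc : Nat.Coprime d 3 := ((Nat.prime_three.coprime_iff_not_dvd).2 hd3).symm
    exact hc.dvd_of_dvd_mul_right (by rw [hd'.2]; exact hd'.1)
  rcases eq_or_ne d 16 with rfl | hne
  swap
  · obtain ⟨i, hi, rfl⟩ := (Nat.dvd_prime_pow Nat.prime_two (m := 4)).1 hd16
    exact (Nat.dvd_prime_pow Nat.prime_two (m := 3)).2 ⟨i, by
      by_contra hc
      interval_cases i <;> simp_all, rfl⟩
  exfalso
  have hrange : 8 ∣ Nat.card (linePerm P).range := by
    have h1 : 16 ∣ Nat.card (linePerm P).ker * Nat.card (linePerm P).range := hmul ▸ ⟨9, rfl⟩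
    have h2 : 16 ∣ 18 * Nat.card (linePerm P).range := h1.trans (Nat.mul_dvd_mul_right hker _)
    omega
  -- the image contains a transposition
  have : Fact (Nat.Prime 2) := ⟨Nat.prime_two⟩
  obtain ⟨S, hS⟩ := Sylow.exists_subgroup_card_pow_prime 2 (n := 3) (G := (linePerm P).range) (show 2 ^ 3 ∣ _ by rw [show (2 : ℕ) ^ 3 = 8 by norm_num]; exact hrange)
  set T := S.map (linePerm P).range.subtype with hT
  have hTcard : Nat.card T = 8 := by
    rw [hT, Subgroup.card_map_of_injective (linePerm P).range.subtype_injective, hS]; norm_num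
  let T' : Sylow 2 (Equiv.Perm {X : Subgroup G // Line P X}) := Sylow.ofCard T (by
    rw [hperm, hTcard, show (24 : ℕ) = 2 ^ 3 * 3 by norm_num,
      Nat.factorization_mul (by norm_num) (by norm_num), Nat.Prime.factorization_pow Nat.prime_two,
      Nat.Prime.factorization Nat.prime_three]
    simp)
  have : Fintype {X : Subgroup G // Line P X} := Fintype.ofFinite _
  obtain ⟨u, v, huv⟩ := Fintype.exists_pair_of_one_lt_card
    (α := {X : Subgroup G // Line P X}) (by rw [← Nat.card_eq_fintype_card, hlinescard]; norm_num)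
  have hord : orderOf (Equiv.swap u v) = 2 :=
    orderOf_eq_prime (by rw [pow_two, Equiv.swap_mul_self]) (Equiv.swap_eq_refl_iff.not.2 huv)
  have hsw : IsPGroup 2 (Subgroup.zpowers (Equiv.swap u v)) :=
    IsPGroup.of_card (n := 1) (by rw [Nat.card_zpowers, pow_one, hord])
  obtain ⟨S', hS'⟩ := hsw.exists_le_sylow
  obtain ⟨g, hg⟩ := exists_smul_eq (Equiv.Perm {X : Subgroup G // Line P X}) S' T'
  have hswap : Equiv.swap (g u) (g v) ∈ (linePerm P).range := by
    have h1 : g * Equiv.swap u v * g⁻¹ ∈ ((g • S' : Sylow 2 _) : Subgroup _) :=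
      Subgroup.smul_mem_pointwise_smul _ (MulAut.conj g) _ (hS' (Subgroup.mem_zpowers _))
    rw [hg] at h1
    rw [Equiv.swap_apply_apply, ← hT] at *
    obtain ⟨y, -, hy⟩ : g * Equiv.swap u v * g⁻¹ ∈ T := h1
    rw [← hy]
    exact y.2
  obtain ⟨n0, hn0⟩ := hswap
  obtain ⟨C', D', hCD'ne, hn0⟩ : ∃ C' D' : {X : Subgroup G // Line P X}, C' ≠ D' ∧
      linePerm P n0 = Equiv.swap C' D' := ⟨g u, g v, fun h => huv (g.injective h), hn0⟩
  -- replace it by an element of two-power order
  obtain ⟨n, hnpow, hn⟩ : ∃ n : N, (∃ k, n ^ 2 ^ k = 1) ∧ linePerm P n = Equiv.swap C' D' := by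
    refine ⟨n0 ^ (ordCompl[2] (orderOf n0)), ⟨(orderOf n0).factorization 2, ?_⟩, ?_⟩
    · rw [← pow_mul, mul_comm, Nat.ordProj_mul_ordCompl_eq_self, pow_orderOf_eq_one]
    · obtain ⟨j, hj⟩ : Odd (ordCompl[2] (orderOf n0)) := by
        rw [← Nat.not_even_iff_odd, even_iff_two_dvd]
        exact Nat.not_dvd_ordCompl Nat.prime_two (orderOf_pos n0).ne'
      rw [map_pow, hn0, hj, pow_succ, pow_mul, pow_two, Equiv.swap_mul_self, one_pow, one_mul]
  obtain ⟨A', hA', B', hB', hAB⟩ := (Set.one_lt_ncard (Set.toFinite _)).1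
    (show 1 < ({C', D'}ᶜ : Set {X : Subgroup G // Line P X}).ncard by
      rw [Set.ncard_compl, hlinescard, Set.ncard_pair hCD'ne]; norm_num)
  simp only [Set.mem_compl_iff, Set.mem_insert_iff, Set.mem_singleton_iff, not_or] at hA' hB'
  have happly : ∀ X : {X : Subgroup G // Line P X},
      MulAut.conj (n : G) • X.1 = (Equiv.swap C' D' X).1 := fun X => by rw [← linePerm_apply, hn]
  have hfA : MulAut.conj (n : G) • A'.1 = A'.1 := by
    rw [happly, Equiv.swap_apply_of_ne_of_ne hA'.1 hA'.2]
  have hfB : MulAut.conj (n : G) • B'.1 = B'.1 := by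
    rw [happly, Equiv.swap_apply_of_ne_of_ne hB'.1 hB'.2]
  have hfC : MulAut.conj (n : G) • C'.1 = D'.1 := by rw [happly, Equiv.swap_apply_left]
  have hfD : MulAut.conj (n : G) • D'.1 = C'.1 := by rw [happly, Equiv.swap_apply_right]
  have hCDne : C'.1 ≠ D'.1 := fun h => hCD'ne (Subtype.ext h)
  have hF : Frame P A'.1 B'.1 :=
    ⟨h9, hG.commute_of_nine hall P, A'.2, B'.2, fun h => hAB (Subtype.ext h)⟩
  have hlines : ∀ X, Line P X → X = A'.1 ∨ X = B'.1 ∨ X = C'.1 ∨ X = D'.1 := by
    intro X hX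
    have huniv : ({A', B', C', D'} : Set {X : Subgroup G // Line P X}) = Set.univ := by
      refine Set.eq_of_subset_of_ncard_le (Set.subset_univ _) ?_
      rw [Set.ncard_univ]
      rw [Set.ncard_insert_of_notMem, Set.ncard_insert_of_notMem, Set.ncard_pair hCD'ne, hlinescard]
      · simp [hB']
      · simp [hA', hAB]
    have h1 : (⟨X, hX⟩ : {X : Subgroup G // Line P X}) ∈ ({A', B', C', D'} : Set _) := huniv ▸ Set.mem_univ _
    simp only [Set.mem_insert_iff, Set.mem_singleton_iff] at h1
    rcases h1 with h | h | h | h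
    · exact Or.inl (congrArg Subtype.val h)
    · exact Or.inr (Or.inl (congrArg Subtype.val h))
    · exact Or.inr (Or.inr (Or.inl (congrArg Subtype.val h)))
    · exact Or.inr (Or.inr (Or.inr (congrArg Subtype.val h)))
  -- the square centralises both fixed lines
  have hsign : ∀ {A : Subgroup G}, Line P A → MulAut.conj (n : G) • A = A →
      (∀ a ∈ A, (n : G) * a = a * n) ∨ (∀ a ∈ A, (n : G) * a * (n : G)⁻¹ = a⁻¹) := by
    intro A hA hfix
    by_cases hall1 : ∀ a ∈ A, a = 1
    · left; intro a ha; rw [hall1 a ha]; simp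
    push_neg at hall1
    obtain ⟨x, hx, hx1⟩ := hall1
    have hA3 := hA.card_three h9
    rcases mem_of_card_three hA3 hx hx1 (conj_smul_mem hfix hx) with h | h | h
    · exact absurd (by simpa using h) hx1
    · left
      intro a ha
      rw [mul_inv_eq_iff_eq_mul] at h
      rcases mem_of_card_three hA3 hx hx1 ha with rfl | rfl | rfl
      · simp
      · exact h
      · exact (show Commute (n : G) x from h).inv_right
    · right
      intro a ha
      rcases mem_of_card_three hA3 hx hx1 ha with rfl | rfl | rfl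
      · simp
      · exact h
      · rw [← conj_inv, h]
  have hsq : ∀ {A : Subgroup G}, Line P A → MulAut.conj (n : G) • A = A →
      ∀ a ∈ A, ((n : G) * n) * a = a * (n * n) := by
    intro A hA hfix a ha
    rcases hsign hA hfix with h | h
    · rw [mul_assoc, h a ha, ← mul_assoc, h a ha, mul_assoc]
    · have h1 := h _ (inv_mem ha)
      rw [inv_inv] at h1
      calc (n : G) * n * a = n * (n * a * (n : G)⁻¹) * n := by group
        _ = n * a⁻¹ * n := by rw [h a ha]
        _ = (n * a⁻¹ * (n : G)⁻¹) * (n * n) := by group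
        _ = a * (n * n) := by rw [h1]
  have hn2P : (n : G) * n ∈ P := by
    refine hG.centralizer_le hall P (Subgroup.mem_centralizer_iff.2 fun p hp => ?_)
    obtain ⟨a, ha, b, hb, rfl⟩ := hF.exists_mul hp
    rw [mul_assoc a b, ← hsq B'.2 hfB b hb, ← mul_assoc a, ← hsq A'.2 hfA a ha, mul_assoc]
  have hn2 : (n : G) * n = 1 := by
    obtain ⟨k, hk⟩ := hnpow
    have h1 : orderOf ((n : G) * n) ∣ 2 ^ k := by
      refine orderOf_dvd_of_pow_eq_one ?_
      rw [← pow_two, ← pow_mul, mul_comm, pow_mul, ← Subgroup.coe_pow, hk, Subgroup.coe_one, one_pow]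
    have h2 : orderOf ((n : G) * n) ∣ 9 := by
      rw [← h9]; exact Subgroup.orderOf_dvd_natCard _ hn2P
    rw [← orderOf_eq_one_iff]
    exact Nat.eq_one_of_dvd_coprimes ((Nat.Coprime.pow_left k (by norm_num : Nat.Coprime 2 9))) h1 h2
  rcases hsign A'.2 hfA with hA | hA <;> rcases hsign B'.2 hfB with hB | hB
  · -- centralises both
    have hnP : (n : G) ∈ P := by
      refine hG.centralizer_le hall P (Subgroup.mem_centralizer_iff.2 fun p hp => ?_)
      obtain ⟨a, ha, b, hb, rfl⟩ := hF.exists_mul hp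
      rw [mul_assoc, ← hB b hb, ← mul_assoc, ← hA a ha, mul_assoc]
    exact hCDne ((Subgroup.mem_normalizer_iff_map_conj_eq.1 (C'.2.le_normalizer hnP)).symm.trans hfC)
  · exact hG.false_of_transposition hall hF C'.2 hCDne hlines n.2 hfB hfC hfD hn2 hA hB
  · exact hG.false_of_transposition hall hF.symm C'.2 hCDne
      (fun X hX => by rcases hlines X hX with h | h | h | h <;> simp [h]) n.2 hfA hfC hfD hn2 hB hA
  · -- inverts both
    have hinvP : ∀ p ∈ P, (n : G) * p * (n : G)⁻¹ = p⁻¹ := by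
      intro p hp
      obtain ⟨a, ha, b, hb, rfl⟩ := hF.exists_mul hp
      rw [← conj_mul, hA a ha, hB b hb, mul_inv_rev,
        hF.commute _ (inv_mem (hF.lineA.le ha)) _ (inv_mem (hF.lineB.le hb))]
    refine hCDne (Eq.trans ?_ hfC)
    refine (Subgroup.eq_of_le_of_card_ge ?_ (le_of_eq (Nat.card_congr (Subgroup.equivSMul _ C'.1).toEquiv))).symm
    rintro _ ⟨c, hc, rfl⟩
    change (n : G) * c * (n : G)⁻¹ ∈ C'.1
    rw [hinvP c (C'.2.le hc)]
    exact inv_mem hc

end CfsgLib.TwentyTwo
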