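import Mathlib
import Cfsg.Agent.S4314
import Cfsg.Agent.S4345
import Cfsg.Agent.Lib.Char.Burnside

/-!
Permutation groups on seven points of order prime to three and divisible by seven.
-/

set_option autoImplicit false
open MulAction

namespace CfsgLib.TwentyTwo

theorem card_dvd_fourteen {α : Type*} [Finite α] (hα : Nat.card α = 7) (H : Subgroup (Equiv.Perm α))
    (h3 : ¬ 3 ∣ Nat.card H) (h7 : 7 ∣ Nat.card H) : Nat.card H ∣ 14 := by
  have : Fact (Nat.Prime 7) := ⟨by norm_num⟩
  have h5040 : Nat.card H ∣ 5040 := by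
    have := Subgroup.card_subgroup_dvd_card H
    rwa [Nat.card_perm, hα] at this
  have h560 : Nat.card H ∣ 560 := by
    have hc : Nat.Coprime (Nat.card H) 9 := by
      rw [show (9 : ℕ) = 3 ^ 2 by norm_num]
      exact (((Nat.prime_three.coprime_iff_not_dvd).2 h3).pow_left 2).symm
    exact hc.dvd_of_dvd_mul_right (show Nat.card H ∣ 560 * 9 by norm_num; exact h5040)
  obtain ⟨Q⟩ : Nonempty (Sylow 7 H) := inferInstance
  have hQ : Nat.card (Q : Subgroup H) = 7 := by
    obtain ⟨k, hk⟩ := IsPGroup.iff_card.1 Q.isPGroup'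
    have h1 : 7 ^ k ∣ 560 := hk ▸ (Subgroup.card_subgroup_dvd_card _).trans h560
    have h2 : 7 ∣ 7 ^ k := hk ▸ Q.dvd_card_of_dvd_card h7
    have hk2 : k ≤ 1 := by
      by_contra hc
      have : 7 ^ 2 ∣ 560 := (pow_dvd_pow 7 (not_le.1 hc)).trans h1
      norm_num at this
    interval_cases k
    · norm_num at h2
    · simpa using hk
  have : IsCyclic (Q : Subgroup H) := isCyclic_of_prime_card hQ
  obtain ⟨y, hy⟩ := exists_prime_orderOf_dvd_card' 7 (G := (Q : Subgroup H)) (by rw [hQ])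
  have hy' : orderOf (y : H) = 7 := by rw [Subgroup.orderOf_coe]; exact hy
  have hQy : (Q : Subgroup H) = Subgroup.zpowers (y : H) :=
    (Subgroup.eq_of_le_of_card_ge (Subgroup.zpowers_le.2 y.2) (by rw [Nat.card_zpowers, hy', hQ])).symm
  have hC : Subgroup.centralizer ((Q : Subgroup H) : Set H) ≤ (Q : Subgroup H) := by
    intro t ht
    rw [hQy]
    exact Cfsg.Agent.S4314.commute_mem_zpowers (X := α) hα hy'
      (Subgroup.mem_centralizer_iff.1 ht _ y.2).symm
  set N := Subgroup.normalizer ((Q : Subgroup H) : Set H) with hN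
  have hN14 : Nat.card N ∣ 14 := by
    have key := Subgroup.card_dvd_of_injective _
      (QuotientGroup.kerLift_injective (Q : Subgroup H).normalizerMonoidHom)
    rw [Subgroup.normalizerMonoidHom_ker, ← Subgroup.index, ← Subgroup.relIndex, IsCyclic.card_mulAut,
      hQ, Nat.totient_prime (by norm_num)] at key
    have hmul := Subgroup.relIndex_mul_relIndex (⊥ : Subgroup H)
      (Subgroup.centralizer ((Q : Subgroup H) : Set H)) N bot_le (Subgroup.centralizer_le_normalizer _)
    rw [Subgroup.relIndex_bot_left, Subgroup.relIndex_bot_left] at hmul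
    have h1 : Nat.card N ∣ 7 * (7 - 1) := by
      rw [← hmul]
      exact Nat.mul_dvd_mul ((Subgroup.card_dvd_of_le hC).trans (by rw [hQ])) key
    have hc : Nat.Coprime (Nat.card N) 3 := ((Nat.prime_three.coprime_iff_not_dvd).2
      (fun h => h3 (h.trans (Subgroup.card_subgroup_dvd_card _)))).symm
    exact hc.dvd_of_dvd_mul_right (show Nat.card N ∣ 14 * 3 by norm_num at h1 ⊢; exact h1)
  have hcount : Nat.card (Sylow 7 H) * Nat.card N = Nat.card H := by
    rw [show Nat.card (Sylow 7 H) = N.index from Q.card_eq_index_normalizer, mul_comm,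
      Subgroup.card_mul_index]
  by_cases h1 : Nat.card (Sylow 7 H) = 1
  · rw [← hcount, h1, one_mul]; exact hN14
  exfalso
  have hmod : Nat.card (Sylow 7 H) % 7 = 1 := card_sylow_modEq_one 7 H
  have h7N : 7 ∣ Nat.card N := hQ ▸ Subgroup.card_dvd_of_le Subgroup.le_normalizer
  obtain ⟨i, hi⟩ := h7N
  have hi2 : i ∣ 2 := Nat.dvd_of_mul_dvd_mul_left (by norm_num : 0 < 7) (by rw [← hi]; exact hN14)
  obtain ⟨n, hn⟩ : ∃ n, n = Nat.card (Sylow 7 H) := ⟨_, rfl⟩
  rw [← hn] at h1 hmod hcount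
  have hn80 : n ∣ 80 := by
    have : n * (7 * i) ∣ 80 * 7 := by rw [← hi, hcount]; exact h560
    rw [← mul_assoc, mul_comm (n * 7) i, ← mul_assoc] at this
    exact (dvd_mul_left n i).trans (Nat.dvd_of_mul_dvd_mul_right (by norm_num) this)
  have hn8 : n = 8 := by
    have hle : n ≤ 80 := Nat.le_of_dvd (by norm_num) hn80
    interval_cases n <;> omega
  have hcard : ∃ a, Nat.card H = 2 ^ a * 7 ^ 1 := by
    rcases (Nat.dvd_prime Nat.prime_two).1 hi2 with h | h
    · exact ⟨3, by rw [← hcount, hn8, hi, h]; norm_num⟩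
    · exact ⟨4, by rw [← hcount, hn8, hi, h]; norm_num⟩
  obtain ⟨a, hcard⟩ := hcard
  have : Nontrivial H := Finite.one_lt_card_iff_nontrivial.1 (by
    have := Nat.le_of_dvd Nat.card_pos h7
    omega)
  obtain ⟨q, M, hq, hM, hMne, hMq⟩ := Cfsg.Agent.S4345.exists_normal_primePower
    (CfsgLib.Char.isSolvable_of_card_eq_prime_pow_mul Nat.prime_two (by norm_num) hcard)
  by_cases hq7 : q = 7
  · subst hq7
    apply h1
    rw [hn]
    have hMQ : ∀ R : Sylow 7 H, M = R := by
      intro R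
      refine Subgroup.eq_of_le_of_card_ge (hMq.le_sylow_of_normal R) ?_
      rw [Nat.card_congr (R.equiv Q).toEquiv, hQ]
      obtain ⟨k, hk⟩ := IsPGroup.iff_card.1 hMq
      rcases k with _ | k
      · exact absurd (Subgroup.card_eq_one.1 (by simpa using hk)) hMne
      · rw [hk]; exact Nat.le_self_pow (by omega) 7
    exact Nat.card_eq_one_iff_unique.2 ⟨⟨fun R S => Sylow.ext ((hMQ R).symm.trans (hMQ S))⟩, inferInstance⟩
  have : Fact q.Prime := ⟨hq⟩
  obtain ⟨a0, ha0⟩ := hMq.nonempty_fixed_point_of_prime_not_dvd_card α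
    (by rw [hα]; exact fun h => hq7 ((Nat.prime_dvd_prime_iff_eq hq (by norm_num)).1 h))
  have horb : (orbit (Subgroup.zpowers (y : H)) a0) = Set.univ := by
    obtain ⟨o, ho⟩ : ∃ o : α, (y : H) • o ≠ o := by
      by_contra! hc
      have h1 : (y : H) = 1 := FaithfulSMul.eq_of_smul_eq_smul (α := α) fun b => by rw [hc, one_smul]
      rw [h1, orderOf_one] at hy'
      norm_num at hy'
    have h1 := Subgroup.index_dvd_card (stabilizer (Subgroup.zpowers (y : H)) o)
    rw [index_stabilizer, Nat.card_zpowers, hy'] at h1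
    have huniv : orbit (Subgroup.zpowers (y : H)) o = Set.univ := by
      rcases (Nat.dvd_prime (by norm_num : Nat.Prime 7)).1 h1 with h | h
      · exfalso
        obtain ⟨b, hb⟩ := Set.ncard_eq_one.1 h
        have h2 : (y : H) • o ∈ orbit (Subgroup.zpowers (y : H)) o :=
          ⟨⟨_, Subgroup.mem_zpowers _⟩, rfl⟩
        have h3 := mem_orbit_self (M := Subgroup.zpowers (y : H)) o
        rw [hb, Set.mem_singleton_iff] at h2 h3
        exact ho (h2.trans h3.symm)
      · exact Set.eq_of_subset_of_ncard_le (Set.subset_univ _) (by rw [h, Set.ncard_univ, hα])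
    rw [orbit_eq_iff.2 (huniv ▸ Set.mem_univ a0 : a0 ∈ orbit (Subgroup.zpowers (y : H)) o), huniv]
  apply hMne
  refine (Subgroup.eq_bot_iff_forall _).2 fun m hm => FaithfulSMul.eq_of_smul_eq_smul (α := α) fun b => ?_
  obtain ⟨g, hg⟩ := (horb ▸ Set.mem_univ b : b ∈ orbit (Subgroup.zpowers (y : H)) a0)
  have hg' : (g : H) • a0 = b := hg
  have hmem : (g : H)⁻¹ * m * g ∈ M := by simpa using hM.conj_mem m hm (g : H)⁻¹
  have h2 : ((g : H)⁻¹ * m * g) • a0 = a0 := ha0 ⟨_, hmem⟩
  rw [one_smul, ← hg']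
  calc m • (g : H) • a0 = (g : H) • ((g : H)⁻¹ * m * g) • a0 := by simp [mul_smul]
    _ = (g : H) • a0 := by rw [h2]

end CfsgLib.TwentyTwo
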