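import Cfsg.Agent.Lib.TwentyTwo.NineAbelian
import Cfsg.Agent.Lib.TwentyTwo.Eleven
import Cfsg.Agent.Lib.TwentyTwo.Parity
import Cfsg.Agent.Lib.TwentyTwo.Seven
import Cfsg.Agent.S4314

/-!
The case of seven orbits of size three.
-/

set_option autoImplicit false
open scoped Pointwise
open MulAction

namespace CfsgLib.TwentyTwo

variable {G : Type*} [Group G] [Finite G]

theorem Setting.three_of_no_nine (hG : Setting G) (hno : ∀ P : Sylow 3 G, nine P = ∅) {P R : Sylow 3 G}
    (h : R ≠ P) : R ∈ three P := by
  rcases hG.eq_or_mem P R with h1 | h1 | h1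
  · exact absurd h1 h
  · exact h1
  · exact absurd (hno P ▸ h1) (Set.notMem_empty R)

theorem Setting.card_eq_three (hG : Setting G) (hno : ∀ P : Sylow 3 G, nine P = ∅) (P : Sylow 3 G) :
    Nat.card (P : Subgroup G) = 3 := by
  have : Fact (Nat.Prime 3) := ⟨Nat.prime_three⟩
  have hab : IsMulCommutative (P : Subgroup G) := by
    refine ⟨⟨fun a b => Subtype.ext ?_⟩⟩
    have h := hG.eq_one_of_mem_all (g := (a : G) * b * (a : G)⁻¹ * (b : G)⁻¹) fun R => by
      by_cases hR : R = P
      · subst hR
        exact mul_mem (mul_mem (mul_mem a.2 b.2) (inv_mem a.2)) (inv_mem b.2)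
      · exact (Line.commutator_mem (X := (P : Subgroup G) ⊓ R) ⟨R, hG.three_of_no_nine hno hR, rfl⟩ a.2 b.2).2
    rwa [mul_inv_eq_one, mul_inv_eq_iff_eq_mul] at h
  obtain ⟨g, hg⟩ := Cfsg.Agent.S0060.result 3 P hab hG.pCore_eq_bot
  have h1 := idx_mul_card P (g • P)
  rw [show ((g • P : Sylow 3 G) : Subgroup G) = MulAut.conj g • (P : Subgroup G) from rfl, hg,
    Subgroup.card_bot, mul_one] at h1
  by_cases hP : g • P = P
  · exfalso
    rw [hP, idx_self] at h1
    have h3 := dvd_ncard_three P
    have h4 := hG.card_three_add_nine P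
    rw [hno P, Set.ncard_empty, add_zero] at h4
    obtain ⟨R, hR⟩ : (three P).Nonempty := Set.nonempty_of_ncard_ne_zero (by omega)
    have h5 := card_inter_mul hR
    omega
  · rw [← h1]; exact hG.three_of_no_nine hno hP

/-- The triples: orbits of `P` on the other Sylow subgroups. -/
def Triple (P : Sylow 3 G) : Type _ :=
  {O : Set (Sylow 3 G) // ∃ R ∈ three P, O = orbit (P : Subgroup G) R}

instance (P : Sylow 3 G) : Finite (Triple P) := Subtype.finite

theorem Setting.card_triple (hG : Setting G) (hno : ∀ P : Sylow 3 G, nine P = ∅) (P : Sylow 3 G) :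
    Nat.card (Triple P) = 7 := by
  classical
  have : Fintype (Sylow 3 G) := Fintype.ofFinite _
  have h4 := hG.card_three_add_nine P
  rw [hno P, Set.ncard_empty, add_zero, Set.ncard_eq_toFinset_card'] at h4
  have hs := Finset.card_eq_sum_card_image (fun R : Sylow 3 G => orbit (P : Subgroup G) R) (three P).toFinset
  rw [h4, Finset.sum_const_nat (m := 3)] at hs
  · have : Nat.card (Triple P) = ((three P).toFinset.image fun R => orbit (P : Subgroup G) R).card := by
      rw [← Set.ncard_coe_finset, ← Nat.card_coe_set_eq]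
      refine Nat.card_congr (Equiv.subtypeEquivRight fun O => ?_)
      simp [eq_comm]
    omega
  · intro O hO
    simp only [Finset.mem_image, Set.mem_toFinset] at hO
    obtain ⟨R, hR, rfl⟩ := hO
    refine Eq.trans ?_ ((ncard_orbit P R).trans (hR : idx P R = 3))
    rw [← Set.ncard_coe_finset]
    congr 1
    ext S
    simp only [Finset.coe_filter, Set.mem_toFinset, Set.mem_ofPred_eq]
    constructor
    · rintro ⟨-, h⟩; exact orbit_eq_iff.1 h
    · intro h
      refine ⟨?_, orbit_eq_iff.2 h⟩
      obtain ⟨p, rfl⟩ := h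
      exact (idx_smul_mem p.2).trans hR

omit [Finite G] in
theorem smul_orbit_of_mem_centralizer {P : Sylow 3 G} {c : G}
    (hc : c ∈ Subgroup.centralizer ((P : Subgroup G) : Set G)) (R : Sylow 3 G) :
    (fun S => c • S) '' orbit (P : Subgroup G) R = orbit (P : Subgroup G) (c • R) := by
  ext S
  constructor
  · rintro ⟨_, ⟨p, rfl⟩, rfl⟩
    refine ⟨p, ?_⟩
    change (p : G) • c • R = c • (p : G) • R
    rw [← mul_smul, Subgroup.mem_centralizer_iff.1 hc p p.2, mul_smul]
  · rintro ⟨p, rfl⟩
    refine ⟨(p : G) • R, ⟨p, rfl⟩, ?_⟩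
    change c • (p : G) • R = (p : G) • c • R
    rw [← mul_smul, ← Subgroup.mem_centralizer_iff.1 hc p p.2, mul_smul]

/-- The permutation of triples induced by an element centralizing `P`. -/
noncomputable def triplePerm (P : Sylow 3 G) :
    Subgroup.centralizer ((P : Subgroup G) : Set G) →* Equiv.Perm (Triple P) :=
  MonoidHom.mk'
    (fun c => Equiv.ofBijective
      (fun O => ⟨(fun S => (c : G) • S) '' O.1, by
        obtain ⟨R, hR, hO⟩ := O.2
        refine ⟨(c : G) • R, ?_, by rw [hO, smul_orbit_of_mem_centralizer c.2]⟩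
        change idx P ((c : G) • R) = 3
        have key : ∀ g : G, g ∈ Subgroup.normalizer ((P : Subgroup G) : Set G) →
            idx P (g • R) = idx P R := fun g hg => by
          conv_lhs => rw [← Sylow.smul_eq_iff_mem_normalizer.2 hg]
          exact idx_conj g P R
        exact (key _ (Subgroup.centralizer_le_normalizer _ c.2)).trans hR⟩)
      (Finite.injective_iff_bijective.1 fun O O' h =>
        Subtype.ext ((Set.image_injective.2 (MulAction.injective (c : G))) (congrArg Subtype.val h))))
    (fun a b => Equiv.ext fun O => Subtype.ext (by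
      change (fun S => ((a : G) * b) • S) '' O.1 = (fun S => (a : G) • S) '' ((fun S => (b : G) • S) '' O.1)
      rw [Set.image_image]
      simp only [mul_smul]))

theorem Setting.triplePerm_ker (hG : Setting G) (hno : ∀ P : Sylow 3 G, nine P = ∅) (P : Sylow 3 G) :
    (triplePerm P).ker.map (Subgroup.centralizer ((P : Subgroup G) : Set G)).subtype = P := by
  have h3 := hG.card_eq_three hno P
  have hpow : ∀ q : (P : Subgroup G), (q : G) ^ 3 = 1 := fun q => by
    have h := pow_card_eq_one' (x := q)
    rw [h3] at h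
    exact_mod_cast congrArg Subtype.val h
  apply le_antisymm
  · rintro _ ⟨c, hc, rfl⟩
    change (c : G) ∈ P
    have hc3 : (c : G) ^ 3 = 1 := by
      refine hG.eq_one_of_fix_all fun R => ?_
      by_cases hR : R = P
      · subst hR
        exact Sylow.smul_eq_iff_mem_normalizer.2 (pow_mem (Subgroup.centralizer_le_normalizer _ c.2) 3)
      have h := congrArg (fun e : Equiv.Perm (Triple P) => (e ⟨_, R, hG.three_of_no_nine hno hR, rfl⟩).1)
        (MonoidHom.mem_ker.1 hc)
      have h1 : (c : G) • R ∈ orbit (P : Subgroup G) R := by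
        have h2 : (c : G) • R ∈ (fun S => (c : G) • S) '' orbit (P : Subgroup G) R :=
          ⟨R, mem_orbit_self R, rfl⟩
        have h' : (fun S => (c : G) • S) '' orbit (P : Subgroup G) R = orbit (P : Subgroup G) R := h
        rw [h'] at h2
        exact h2
      obtain ⟨q, hq⟩ := h1
      have hq' : (q : G) • R = (c : G) • R := hq
      have hk : ∀ k : ℕ, (c : G) ^ k • R = (q : G) ^ k • R := by
        intro k
        induction k with
        | zero => simp
        | succ k ih =>
          rw [pow_succ, mul_smul, ← hq', ← mul_smul,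
            ← (Commute.pow_right (show Commute (q : G) (c : G) from Subgroup.mem_centralizer_iff.1 c.2 q q.2) k).eq,
            mul_smul, ih, ← mul_smul, ← pow_succ']
      rw [hk, hpow, one_smul]
    have hcp : IsPGroup 3 (Subgroup.zpowers (c : G)) := by
      intro a
      refine ⟨1, Subtype.ext ?_⟩
      obtain ⟨k, hk⟩ := a.2
      rw [Subgroup.coe_pow, Subgroup.coe_one, ← hk, pow_one]
      change ((c : G) ^ k) ^ 3 = 1
      rw [← zpow_natCast, ← zpow_mul, mul_comm, zpow_mul, zpow_natCast, hc3, one_zpow]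
    exact (smul_eq_iff_mem hcp (Subgroup.mem_zpowers _)).1
      (Sylow.smul_eq_iff_mem_normalizer.2 (Subgroup.centralizer_le_normalizer _ c.2))
  · intro p hp
    have : Fact (Nat.Prime 3) := ⟨Nat.prime_three⟩
    have hcyc : IsCyclic (P : Subgroup G) := isCyclic_of_prime_card h3
    have hpc : p ∈ Subgroup.centralizer ((P : Subgroup G) : Set G) := Subgroup.mem_centralizer_iff.2
      fun a ha => congrArg Subtype.val ((IsCyclic.isMulCommutative :
        IsMulCommutative (P : Subgroup G)).is_comm.comm ⟨a, ha⟩ ⟨p, hp⟩)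
    refine ⟨⟨p, hpc⟩, MonoidHom.mem_ker.2 (Equiv.ext fun O => Subtype.ext ?_), rfl⟩
    obtain ⟨R, hR, hO⟩ := O.2
    change (fun S => p • S) '' O.1 = O.1
    rw [hO, smul_orbit_of_mem_centralizer hpc]
    exact orbit_eq_iff.2 ⟨⟨p, hp⟩, rfl⟩

/-- The structure of the normalizer of `P` in the case of seven triples. -/
theorem Setting.card_normalizer_three (hG : Setting G) (hno : ∀ P : Sylow 3 G, nine P = ∅) (P : Sylow 3 G) :
    ∃ D e : ℕ, Nat.card (Subgroup.normalizer ((P : Subgroup G) : Set G)) = 3 * D * e ∧ e ∣ 2 ∧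
      D ∣ 5040 ∧ ¬ 3 ∣ D ∧ (7 ∣ D → D ∣ 14) ∧
      Nat.card (Subgroup.centralizer ((P : Subgroup G) : Set G)) = 3 * D := by
  have : Fact (Nat.Prime 3) := ⟨Nat.prime_three⟩
  have h3 := hG.card_eq_three hno P
  set C := Subgroup.centralizer ((P : Subgroup G) : Set G) with hC
  set N := Subgroup.normalizer ((P : Subgroup G) : Set G) with hN
  have h7 := hG.card_triple hno P
  have hker : Nat.card (triplePerm P).ker = 3 := by
    rw [← Subgroup.card_map_of_injective C.subtype_injective (K := (triplePerm P).ker),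
      hG.triplePerm_ker hno P, h3]
  have hCcard : Nat.card C = 3 * Nat.card (triplePerm P).range := by
    rw [← Subgroup.card_mul_index (triplePerm P).ker, Subgroup.index_ker, hker]
  have hCN : C ≤ N := Subgroup.centralizer_le_normalizer _
  have hrange : Nat.card (triplePerm P).range ∣ 5040 := by
    have := Subgroup.card_subgroup_dvd_card (triplePerm P).range
    rwa [Nat.card_perm, h7] at this
  have hnot : ¬ 3 ∣ Nat.card (triplePerm P).range := by
    intro h
    have hP : (P : Subgroup G) ≤ C := by
      rw [← hG.triplePerm_ker hno P]; exact Subgroup.map_subtype_le _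
    have hi : ((P : Subgroup G).subgroupOf C).index = Nat.card (triplePerm P).range := by
      have h1 := Subgroup.card_mul_index ((P : Subgroup G).subgroupOf C)
      rw [Nat.card_congr (Subgroup.subgroupOfEquivOfLe hP).toEquiv, h3, hCcard] at h1
      omega
    exact (P.subtype hP).not_dvd_index (by rw [Sylow.coe_subtype, hi]; exact h)
  have hmul := Subgroup.relIndex_mul_relIndex (⊥ : Subgroup G) C N bot_le hCN
  rw [Subgroup.relIndex_bot_left, Subgroup.relIndex_bot_left] at hmul
  have : IsCyclic (P : Subgroup G) := isCyclic_of_prime_card h3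
  have he : C.relIndex N ∣ 2 := by
    have key := Subgroup.card_dvd_of_injective _
      (QuotientGroup.kerLift_injective (P : Subgroup G).normalizerMonoidHom)
    rw [Subgroup.normalizerMonoidHom_ker, ← Subgroup.index, ← Subgroup.relIndex, IsCyclic.card_mulAut,
      h3, Nat.totient_prime (by norm_num)] at key
    exact key
  refine ⟨Nat.card (triplePerm P).range, C.relIndex N, ?_, he, hrange, hnot,
    fun h => card_dvd_fourteen h7 _ hnot h, hCcard⟩
  rw [← hmul, hCcard]

/-- No group in the setting has only orbits of size three. -/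
theorem Setting.false_of_no_nine (hG : Setting G) (hno : ∀ P : Sylow 3 G, nine P = ∅) (P : Sylow 3 G) :
    False := by
  classical
  have : Fact (Nat.Prime 11) := ⟨by norm_num⟩
  obtain ⟨D, e', hN, he', hD, hD3, hD7, hCP⟩ := hG.card_normalizer_three hno P
  have hD560 : D ∣ 560 := by
    have hc : Nat.Coprime D 9 := by
      rw [show (9 : ℕ) = 3 ^ 2 by norm_num]
      exact (((Nat.prime_three.coprime_iff_not_dvd).2 hD3).pow_left 2).symm
    exact hc.dvd_of_dvd_mul_right (show D ∣ 560 * 9 by norm_num; exact hD)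
  have h11 : ¬ 11 ∣ Nat.card (Subgroup.normalizer ((P : Subgroup G) : Set G)) := by
    rw [hN]
    intro h
    have h2 : 11 ∣ 3 * 560 * 2 := h.trans (Nat.mul_dvd_mul (Nat.mul_dvd_mul_left 3 hD560) he')
    norm_num at h2
  obtain ⟨Q, c, e, hQ, hc, he, he1, hCQ, hNQ, hmod, heq⟩ := hG.eleven P h11
  rw [hN] at heq
  obtain ⟨n, hn⟩ : ∃ n, n = Nat.card (Sylow 11 G) := ⟨_, rfl⟩
  rw [← hn] at hmod heq
  have hdvd : n ∣ 6720 := by
    have : n ∣ 2 * (3 * D * e') := ⟨_, heq.symm⟩
    exact this.trans ((Nat.mul_dvd_mul_left 2 (Nat.mul_dvd_mul (Nat.mul_dvd_mul_left 3 hD560) he')))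
  have hnle : n ≤ 6720 := Nat.le_of_dvd (by norm_num) hdvd
  have hce : c * e ∣ 20 := Nat.mul_dvd_mul hc he
  have h3n : 3 ∣ n := by
    have h1 : 3 ∣ n * (c * e) := heq ▸ (dvd_mul_of_dvd_right (dvd_mul_of_dvd_left (dvd_mul_right 3 D) e') 2)
    refine (Nat.Coprime.dvd_of_dvd_mul_right ?_ h1)
    rw [Nat.prime_three.coprime_iff_not_dvd]
    exact fun h => by have := h.trans hce; norm_num at this
  have hn12 : n = 12 := by
    by_contra hne
    have h14 : 7 ∣ n → D ∣ 14 := by
      intro h7
      refine hD7 ?_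
      have h1 : 7 ∣ 2 * (3 * D * e') := heq ▸ dvd_mul_of_dvd_left h7 _
      have h2 : e' ≤ 2 := Nat.le_of_dvd (by norm_num) he'
      have h7p : Nat.Prime 7 := by norm_num
      rcases (Nat.Prime.dvd_mul h7p).1 h1 with h | h
      · norm_num at h
      rcases (Nat.Prime.dvd_mul h7p).1 h with h | h
      · rcases (Nat.Prime.dvd_mul h7p).1 h with h | h
        · norm_num at h
        · exact h
      · have := h.trans he'; norm_num at this
    obtain ⟨j, hj⟩ : ∃ j, n = 33 * j + 12 := ⟨(n - 12) / 33, by omega⟩
    have hlist : n = 210 ∨ n = 672 := by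
      have key : ∀ j < 204, (33 * j + 12) ∣ 6720 → 33 * j + 12 = 12 ∨ 33 * j + 12 = 210 ∨ 33 * j + 12 = 672 := by
        decide +kernel
      rcases key j (by omega) (hj ▸ hdvd) with h | h | h
      · exact absurd (hj.trans h) hne
      · exact Or.inl (hj.trans h)
      · exact Or.inr (hj.trans h)
    have hle : D * e' ≤ 28 := by
      have h7 : D ∣ 14 := h14 (by rcases hlist with rfl | rfl <;> norm_num)
      calc D * e' ≤ 14 * 2 := Nat.mul_le_mul (Nat.le_of_dvd (by norm_num) h7) (Nat.le_of_dvd (by norm_num) he')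
        _ = 28 := by norm_num
    have hce0 : 2 ≤ c * e := by
      have h1 : c ≠ 0 := by rintro rfl; simp at hc
      have h2 : e ≠ 0 := by rintro rfl; simp at he
      calc 2 ≤ e := by omega
        _ ≤ c * e := Nat.le_mul_of_pos_left e (Nat.pos_of_ne_zero h1)
    rw [mul_assoc 3 D e'] at heq
    have := Nat.mul_le_mul_left n hce0
    rcases hlist with rfl | rfl <;> omega
  rw [hn12] at hn heq
  -- twelve Sylow subgroups for eleven
  have hfaith : ∀ g : G, (∀ S : Sylow 11 G, g • S = S) → g = 1 := by
    intro g h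
    have := hG.simple
    let φ : G →* Equiv.Perm (Sylow 11 G) := toPermHom G (Sylow 11 G)
    rcases (inferInstance : φ.ker.Normal).eq_bot_or_eq_top with hb | hb
    · have : g ∈ φ.ker := MonoidHom.mem_ker.2 (Equiv.ext h)
      rwa [hb, Subgroup.mem_bot] at this
    · have hsub : Subsingleton (Sylow 11 G) := ⟨fun A B => by
        obtain ⟨a, rfl⟩ := exists_smul_eq G A B
        have ha : φ a = 1 := MonoidHom.mem_ker.1 (hb ▸ Subgroup.mem_top a : a ∈ φ.ker)
        exact ((Equiv.ext_iff.1 ha) A).symm⟩
      rw [Nat.card_eq_one_iff_unique.2 ⟨hsub, inferInstance⟩] at hn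
      norm_num at hn
  have hQfix : ∀ g : G, g ∈ Subgroup.normalizer ((Q : Subgroup G) : Set G) → g • Q = Q := fun g hg =>
    Sylow.smul_eq_iff_mem_normalizer.2 hg
  -- `Q` is transitive on the other eleven
  have horbit : ∀ S : Sylow 11 G, S ≠ Q → orbit (Q : Subgroup G) S = ({Q} : Set (Sylow 11 G))ᶜ := by
    intro S hS
    refine Set.eq_of_subset_of_ncard_le ?_ ?_
    · rintro _ ⟨q, rfl⟩ h
      have h' : (q : G) • S = Q := h
      refine hS ?_
      rw [← inv_smul_smul (q : G) S, h', hQfix _ (Subgroup.le_normalizer (inv_mem q.2))]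
    · rw [Set.ncard_compl, Set.ncard_singleton, ← hn]
      have h1 := Subgroup.index_dvd_card (stabilizer (Q : Subgroup G) S)
      rw [index_stabilizer, hQ] at h1
      rcases (Nat.dvd_prime (by norm_num : Nat.Prime 11)).1 h1 with h | h
      · exfalso
        apply hS
        have hle : (Q : Subgroup G) ≤ S := by
          intro q hq
          obtain ⟨a, ha⟩ := Set.ncard_eq_one.1 h
          have h2 : q • S ∈ orbit (Q : Subgroup G) S := ⟨⟨q, hq⟩, rfl⟩
          have h3 : S ∈ orbit (Q : Subgroup G) S := mem_orbit_self S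
          rw [ha, Set.mem_singleton_iff] at h2 h3
          have h4 : q ∈ (Q : Subgroup G) ⊓ Subgroup.normalizer ((S : Subgroup G) : Set G) :=
            ⟨hq, Sylow.smul_eq_iff_mem_normalizer.1 (h2.trans h3.symm)⟩
          exact ((IsPGroup.inf_normalizer_sylow Q.isPGroup' S).le h4).2
        exact Sylow.ext (Q.3 S.isPGroup' hle)
      · omega
  obtain ⟨S0, hS0⟩ : ∃ S : Sylow 11 G, S ≠ Q := by
    by_contra! h
    rw [Nat.card_eq_one_iff_unique.2 ⟨⟨fun A B => (h A).trans (h B).symm⟩, inferInstance⟩] at hn
    norm_num at hn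
  have hall : ∀ g : G, g • Q = Q → g • S0 = S0 → (∀ q ∈ Q, q * g = g * q) → g = 1 := by
    intro g hgQ hgS hcomm
    refine hfaith g fun S => ?_
    by_cases hS : S = Q
    · rw [hS, hgQ]
    have : S ∈ orbit (Q : Subgroup G) S0 := by rw [horbit S0 hS0]; exact hS
    obtain ⟨q, rfl⟩ := this
    change g • (q : G) • S0 = (q : G) • S0
    rw [← mul_smul, ← hcomm q q.2, mul_smul, hgS]
  have : IsCyclic (Q : Subgroup G) := isCyclic_of_prime_card hQ
  have hQcomm : ∀ a ∈ (Q : Subgroup G), ∀ b ∈ (Q : Subgroup G), a * b = b * a := fun a ha b hb =>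
    congrArg Subtype.val
      ((IsCyclic.isMulCommutative : IsMulCommutative (Q : Subgroup G)).is_comm.comm ⟨a, ha⟩ ⟨b, hb⟩)
  have hCQle : ∀ t ∈ Subgroup.centralizer ((Q : Subgroup G) : Set G), t ∈ (Q : Subgroup G) := by
    intro t ht
    have htN : t ∈ Subgroup.normalizer ((Q : Subgroup G) : Set G) := Subgroup.centralizer_le_normalizer _ ht
    have h1 : t • S0 ∈ orbit (Q : Subgroup G) S0 := by
      rw [horbit S0 hS0]
      exact fun h => hS0 (smul_left_cancel t (h.trans (hQfix t htN).symm))
    obtain ⟨q, hq⟩ := h1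
    have hq' : (q : G) • S0 = t • S0 := hq
    have h2 : (q : G)⁻¹ * t = 1 := by
      refine hall _ ?_ ?_ fun a ha => ?_
      · exact hQfix _ (mul_mem (Subgroup.le_normalizer (inv_mem q.2)) htN)
      · rw [mul_smul, ← hq', inv_smul_smul]
      · rw [← mul_assoc, hQcomm a ha _ (inv_mem q.2), mul_assoc, Subgroup.mem_centralizer_iff.1 ht a ha,
          mul_assoc]
    rw [inv_mul_eq_one] at h2
    exact h2 ▸ q.2
  have hc1 : c = 1 := by
    have h := Subgroup.card_dvd_of_le (fun t ht => hCQle t ht :
      Subgroup.centralizer ((Q : Subgroup G) : Set G) ≤ (Q : Subgroup G))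
    rw [hCQ, hQ] at h
    have := Nat.le_of_dvd (by norm_num) h
    have : c ≠ 0 := by rintro rfl; simp at hc
    omega
  rw [hc1, one_mul] at heq
  rw [hc1, mul_one] at hNQ
  have : Fintype (Sylow 11 G) := Fintype.ofFinite _
  -- the order of `e` is odd
  have heodd : ¬ 2 ∣ e := by
    intro h2
    have : Fact (Nat.Prime 2) := ⟨Nat.prime_two⟩
    obtain ⟨t, ht⟩ := exists_prime_orderOf_dvd_card' 2
      (G := Subgroup.normalizer ((Q : Subgroup G) : Set G)) (by rw [hNQ]; exact dvd_mul_of_dvd_right h2 11)
    have ht' : orderOf (t : G) = 2 := by rw [Subgroup.orderOf_coe]; exact ht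
    have ht2 : (t : G) * t = 1 := by rw [← pow_two, ← ht', pow_orderOf_eq_one]
    have htQ : (t : G) ∉ (Q : Subgroup G) := by
      intro h
      have := Subgroup.orderOf_dvd_natCard _ h
      rw [ht', hQ] at this
      norm_num at this
    obtain ⟨S, hS, htS⟩ := exists_fixed_of_odd ht2 (S := ({Q} : Set (Sylow 11 G))ᶜ)
      (by rw [Set.ncard_compl, Set.ncard_singleton, ← hn]; exact ⟨5, rfl⟩)
      (fun R hR h => hR (smul_left_cancel (t : G) (h.trans (hQfix _ t.2).symm)))
    have hset : {R : Sylow 11 G | toPermHom G (Sylow 11 G) (t : G) R = R} = {Q, S} := by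
      ext R
      change (t : G) • R = R ↔ R = Q ∨ R = S
      constructor
      · intro hR
        by_contra! hne
        have h1 : R ∈ orbit (Q : Subgroup G) S := by rw [horbit S hS]; exact hne.1
        obtain ⟨q, rfl⟩ := h1
        change (t : G) • (q : G) • S = (q : G) • S at hR
        have h2 : ((q : G)⁻¹ * t * q * (t : G)⁻¹) • S = S := by
          rw [mul_smul, inv_smul_eq_iff.2 htS.symm, mul_smul, mul_smul, hR, inv_smul_smul]
        have hmem : (q : G)⁻¹ * t * q * (t : G)⁻¹ ∈ (Q : Subgroup G) := by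
          rw [mul_assoc, mul_assoc]
          refine mul_mem (inv_mem q.2) ?_
          rw [← mul_assoc]
          exact (Subgroup.mem_normalizer_iff.1 t.2 q).1 q.2
        have h3 : (q : G)⁻¹ * t * q * (t : G)⁻¹ = 1 := by
          refine hfaith _ fun R' => ?_
          by_cases hR' : R' = Q
          · rw [hR']; exact hQfix _ (Subgroup.le_normalizer hmem)
          have : R' ∈ orbit (Q : Subgroup G) S := by rw [horbit S hS]; exact hR'
          obtain ⟨r, rfl⟩ := this
          change _ • (r : G) • S = (r : G) • S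
          rw [← mul_smul, hQcomm _ hmem r r.2, mul_smul, h2]
        rw [mul_inv_eq_one, mul_assoc, inv_mul_eq_iff_eq_mul] at h3
        have hq1 : (q : G) ≠ 1 := fun h => hne.2 (by
          change (q : G) • S = S
          rw [h, one_smul])
        have hQle : (Q : Subgroup G) ≤ Subgroup.centralizer {(t : G)} := by
          have hz : Subgroup.zpowers (q : G) = (Q : Subgroup G) := by
            refine Subgroup.eq_of_le_of_card_ge (Subgroup.zpowers_le.2 q.2) ?_
            rw [Nat.card_zpowers, hQ]
            have hq11 := Subgroup.orderOf_dvd_natCard _ q.2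
            rw [hQ] at hq11
            rcases (Nat.dvd_prime (by norm_num : Nat.Prime 11)).1 hq11 with h | h
            · exact absurd (orderOf_eq_one_iff.1 h) hq1
            · omega
          refine hz.symm.le.trans ?_
          rw [Subgroup.zpowers_le, Subgroup.mem_centralizer_singleton_iff]
          exact h3.symm
        exact htQ (hCQle _ (Subgroup.mem_centralizer_iff.2 fun a ha =>
          Subgroup.mem_centralizer_singleton_iff.1 (hQle ha)))
      · rintro (rfl | rfl)
        · exact hQfix _ t.2
        · exact htS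
    have hsign : Equiv.Perm.sign (toPermHom G (Sylow 11 G) (t : G)) ≠ 1 := by
      refine sign_ne_one_of_involution ?_ (hset ▸ Set.ncard_pair (Ne.symm hS)) (k := 5) ?_ ⟨2, rfl⟩
      · rw [← map_mul, ht2, map_one]
      · rw [← Nat.card_eq_fintype_card, ← hn]
    exact hsign (hG.sign_eq_one (t : G))
  have he5 : e = 5 := by
    have : e ≤ 10 := Nat.le_of_dvd (by norm_num) he
    interval_cases e <;> omega
  -- an element of order five centralising `P`
  have h5D : 5 ∣ D := by
    have : 5 ∣ D * e' := by
      rw [mul_assoc 3 D e', he5] at heq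
      omega
    rcases (Nat.Prime.dvd_mul (by norm_num : Nat.Prime 5)).1 this with h | h
    · exact h
    · have := h.trans he'; norm_num at this
  have : Fact (Nat.Prime 5) := ⟨by norm_num⟩
  have : Fact (Nat.Prime 3) := ⟨Nat.prime_three⟩
  obtain ⟨a, ha⟩ := exists_prime_orderOf_dvd_card' 5
    (G := Subgroup.centralizer ((P : Subgroup G) : Set G)) (by rw [hCP]; exact dvd_mul_of_dvd_right h5D 3)
  have ha' : orderOf (a : G) = 5 := by rw [Subgroup.orderOf_coe]; exact ha
  set F : Set (Sylow 11 G) := fixedPoints (Subgroup.zpowers (a : G)) (Sylow 11 G) with hF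
  have hFmod : Nat.card (Sylow 11 G) ≡ F.ncard [MOD 5] := by
    have hp : IsPGroup 5 (Subgroup.zpowers (a : G)) :=
      IsPGroup.of_card (n := 1) (by rw [Nat.card_zpowers, ha', pow_one])
    exact hp.card_modEq_card_fixedPoints (Sylow 11 G)
  have hP3 := hG.card_eq_three hno P
  have hFdvd : 3 ∣ F.ncard := by
    refine dvd_ncard_of_orbit (H := (P : Subgroup G)) 3 F ?_ ?_
    · intro p S hS b
      obtain ⟨k, hk⟩ := b.2
      change (b : G) • (p : G) • S = (p : G) • S
      have hcm : Commute (p : G) (b : G) := by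
        rw [← hk]
        exact (show Commute (p : G) (a : G) from Subgroup.mem_centralizer_iff.1 a.2 p p.2).zpow_right k
      rw [← mul_smul, ← hcm.eq, mul_smul, show (b : G) • S = S from hS b]
    · intro S _
      have h1 := Subgroup.index_dvd_card (stabilizer (P : Subgroup G) S)
      rw [index_stabilizer, hP3] at h1
      rcases (Nat.dvd_prime Nat.prime_three).1 h1 with h | h
      · exfalso
        have hle : (P : Subgroup G) ≤ Subgroup.normalizer ((S : Subgroup G) : Set G) := by
          intro p hp
          obtain ⟨b, hb⟩ := Set.ncard_eq_one.1 h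
          have h2 : p • S ∈ orbit (P : Subgroup G) S := ⟨⟨p, hp⟩, rfl⟩
          have h3 : S ∈ orbit (P : Subgroup G) S := mem_orbit_self S
          rw [hb, Set.mem_singleton_iff] at h2 h3
          exact Sylow.smul_eq_iff_mem_normalizer.1 (h2.trans h3.symm)
        have hd := Subgroup.card_dvd_of_le hle
        have h55 : Nat.card (Subgroup.normalizer ((S : Subgroup G) : Set G)) = 55 := by
          have h1 : ∀ R : Sylow 11 G, Nat.card G = 12 * Nat.card (Subgroup.normalizer ((R : Subgroup G) : Set G)) := by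
            intro R
            rw [hn, show Nat.card (Sylow 11 G) = (Subgroup.normalizer ((R : Subgroup G) : Set G)).index from
              R.card_eq_index_normalizer, mul_comm, Subgroup.card_mul_index]
          have hS1 := h1 S
          have hQ1 := h1 Q
          rw [he5] at hNQ
          omega
        rw [hP3, h55] at hd
        norm_num at hd
      · rw [h]
  have hFle : F.ncard ≤ 12 := by
    rw [hn, ← Set.ncard_univ (Sylow 11 G)]
    exact Set.ncard_le_ncard (Set.subset_univ _)
  have hF12 : F.ncard = 12 := by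
    rw [← hn] at hFmod
    unfold Nat.ModEq at hFmod
    omega
  have hFuniv : F = Set.univ := Set.eq_of_subset_of_ncard_le (Set.subset_univ _) (by
    rw [Set.ncard_univ, ← hn, hF12])
  have ha1 : (a : G) = 1 := hfaith _ fun S =>
    (hFuniv ▸ Set.mem_univ S : S ∈ F) ⟨_, Subgroup.mem_zpowers _⟩
  rw [ha1, orderOf_one] at ha'
  norm_num at ha'

end CfsgLib.TwentyTwo
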